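import Cfsg.Agent.Lib.Sporadic.CosetCertGroup

/-!
# Coset enumeration certificate HNDouble.certA

Machine-generated data and the kernel checks on it.
-/

set_option maxRecDepth 100000

namespace CfsgLib.Sporadic.CosetCert.HNDouble

/-- Coset enumeration certificate `hnA`: 20 cosets, 20 nodes, 60 facts. -/
noncomputable def certA : Cert where
  N := 20
  M := 20
  nl := 3
  nr := 3
  fuel := 1
  vb := 8
  rb := 6
  iv := 0x3120
  words := [(6, 0x111111), (8, 0x1010101), (9, 0x110110110), (1, 0x1)]
  slots := (.leaf 0x3c13ec4fa12000360edc479130003812cc4320d0003411b83300f0002a0cac3af100002c0fd44a80b000240a942f1110002d10a43e209000260d802270e0001c068c35d080001805641e10c0001f0b5811e0a0001a09480d40500010046c28e030000c025c2530700015083c18a0200011072004d0600006012c149040000703140840000002000400301)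
  just := (.leaf 0x20226c044804048000800930000000000002021cc0438000080000000000000000000020224c0434040480008006b00000000000020222c0004083180008007b00000000000020218c043004088388000090000000000002021ec0000000000008005b00000000000020214c042800008000000000000000000000000000000000000008004b0000000000002021ac000408218000000000000000000002020cc000000000083000090000000000002020ac041400008000000000000000000000000000004081180008005300000000000020212c0004080d80008002b00000000000020208c0000000000008001b00000000000020204c000000000403808110000000000000000001c1804048000800130000000000000000000004080580000000000000000000020202c000000000000000000000000000000000000000000000008000300000000000020200c0000000c800000000)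
  parent := (.leaf 0x4903a03503303202d02a02502301a01601300f00d00a009007006001000)

theorem certA_keys0 : certA.keysOK 0 80 = true := by decide +kernel
theorem certA_closed0 : certA.closedFrom 61 0 20 = true := by decide +kernel

theorem certA_valid : certA.Valid :=
  valid_of
    (fun k hk => (keysOK_spec certA_keys0) k (Nat.zero_le _) hk)
    (fun u hu => ⟨61, (closedFrom_spec certA_closed0) u (Nat.zero_le _) hu⟩)
    (by decide +kernel) (by decide +kernel)

end CfsgLib.Sporadic.CosetCert.HNDouble
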