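import Cfsg.Agent.Lib.Sporadic.HNDouble.CertX6Data

/-!
# Coset enumeration certificate HNDouble.certX6, checks 5

Machine-generated data and the kernel checks on it.
-/

set_option maxRecDepth 100000

namespace CfsgLib.Sporadic.CosetCert.HNDouble

theorem certX6_keys15 : certX6.keysOK 45000 3000 = true := by decide +kernel
theorem certX6_keys16 : certX6.keysOK 48000 3000 = true := by decide +kernel
theorem certX6_keys17 : certX6.keysOK 51000 3000 = true := by decide +kernel

end CfsgLib.Sporadic.CosetCert.HNDouble
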