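import Cfsg.Agent.Lib.Sporadic.HNDouble.CertX6Check0
import Cfsg.Agent.Lib.Sporadic.HNDouble.CertX6Check1
import Cfsg.Agent.Lib.Sporadic.HNDouble.CertX6Check2
import Cfsg.Agent.Lib.Sporadic.HNDouble.CertX6Check3
import Cfsg.Agent.Lib.Sporadic.HNDouble.CertX6Check4
import Cfsg.Agent.Lib.Sporadic.HNDouble.CertX6Check5
import Cfsg.Agent.Lib.Sporadic.HNDouble.CertX6Check6
import Cfsg.Agent.Lib.Sporadic.HNDouble.CertX6Check7
import Cfsg.Agent.Lib.Sporadic.HNDouble.CertX6Check8

/-!
# Coset enumeration certificate HNDouble.certX6

Machine-generated data and the kernel checks on it.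
-/

set_option maxRecDepth 100000

namespace CfsgLib.Sporadic.CosetCert.HNDouble


theorem certX6_valid : certX6.Valid :=
  valid_of
    (fun k hk => (range_split (range_split (range_split (range_split (range_split (range_split (range_split (range_split (range_split (range_split (range_split (range_split (range_split (range_split (range_split (range_split (range_split (range_split (range_split (range_split (range_split (keysOK_spec certX6_keys0) (keysOK_spec certX6_keys1)) (keysOK_spec certX6_keys2)) (keysOK_spec certX6_keys3)) (keysOK_spec certX6_keys4)) (keysOK_spec certX6_keys5)) (keysOK_spec certX6_keys6)) (keysOK_spec certX6_keys7)) (keysOK_spec certX6_keys8)) (keysOK_spec certX6_keys9)) (keysOK_spec certX6_keys10)) (keysOK_spec certX6_keys11)) (keysOK_spec certX6_keys12)) (keysOK_spec certX6_keys13)) (keysOK_spec certX6_keys14)) (keysOK_spec certX6_keys15)) (keysOK_spec certX6_keys16)) (keysOK_spec certX6_keys17)) (keysOK_spec certX6_keys18)) (keysOK_spec certX6_keys19)) (keysOK_spec certX6_keys20)) (keysOK_spec certX6_keys21)) k (Nat.zero_le _) hk)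
    (fun u hu => ⟨50078, (range_split (range_split (range_split (closedFrom_spec certX6_closed0) (closedFrom_spec certX6_closed1)) (closedFrom_spec certX6_closed2)) (closedFrom_spec certX6_closed3)) u (Nat.zero_le _) hu⟩)
    (by decide +kernel) (by decide +kernel)

end CfsgLib.Sporadic.CosetCert.HNDouble
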