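import Cfsg.Agent.Lib.Sporadic.OutCert.Perm

/-!
# Permutations on 100 points for the double cover of the automorphism group of the Higman-Sims group
-/

set_option autoImplicit false

namespace CfsgLib.Sporadic.CosetCert.HNDouble

/-- The image of `x`. -/
def kX : ℕ := 0x968a23040edc313b206942e2a6391f188bd9200cd5c6ae7da4949d616c59f293d06826bd16a5d690cd375472e60160c28694ce01318f10c711892df1cfedb22ad6684af08dd85006889a67eca75f5882304b16985c1c94e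

/-- The image of `y`. -/
def kY : ℕ := 0xbc2eb4920c684448370d2b30a2ab587c7221e0b0337052dddb1361cc38b49114e32d4fb90254b4c0c3192e171e2bf3abd3a9568c17f21f468edcc353c8da1a08a8e887624ab936a5e2174a1ea540d89af0ec050100b8b32

/-- The image of the inverse of `y`. -/
def kYi : ℕ := 0x62c2ccd5f8e43b92f6bc75b8552b59614dd78ba34470e70264692adc8b5943a4e946912e3ca4b442901d9802f06100a153a86890e7edc65b3d4080ba47ccc32671a216604aca130605f9f46d3ec414b180ed591b6d38203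

/-- The image of `z`. -/
def kZ : ℕ := 0x972a2608179c5c67686942e2cca60c902d09e0e64dc78a4c88d1e2e18709f5f7f05eb976e9e5d68d9ab7b6c98b0140088f447501319510d210ad2a91c7951c2a6aa84ae58dd85049690587eca7acbc4a30f4e8989c080ae

/-- The image of the involution of the subgroup of order 120. -/
def kS : ℕ := 0xbb6abdfc1571dcb78acd8c33af54a33e9d0a55a6b296e54c8602130538560932845e3d76d65346ecdd386d3154758b572f56c64924f1458e12690840230cc33688e90143613f80a1f180c90b1e4a5d1c60e3e2200608f80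

/-- The elements of the subgroup of order 120 as words. -/
def wordsA : List (List ℕ) := [[], [0], [1], [2], [0, 1], [0, 2], [1, 0], [1, 1], [2, 0], [2, 2], [0, 1, 0], [0, 1, 1], [0, 2, 0], [0, 2, 2], [1, 0, 1], [1, 0, 2], [1, 1, 0], [1, 1, 1], [2, 0, 1], [2, 0, 2], [2, 2, 0], [0, 1, 0, 1], [0, 1, 0, 2], [0, 1, 1, 0], [0, 1, 1, 1], [0, 2, 0, 1], [0, 2, 0, 2], [0, 2, 2, 0], [1, 0, 1, 1], [1, 0, 2, 0], [1, 0, 2, 2], [1, 1, 0, 1], [1, 1, 0, 2], [1, 1, 1, 0], [2, 0, 1, 0], [2, 0, 1, 1], [2, 0, 2, 2], [2, 2, 0, 1], [2, 2, 0, 2], [0, 1, 0, 1, 1], [0, 1, 0, 2, 0], [0, 1, 0, 2, 2], [0, 1, 1, 0, 2], [0, 1, 1, 1, 0], [0, 2, 0, 1, 0], [0, 2, 0, 1, 1], [0, 2, 0, 2, 2], [0, 2, 2, 0, 1], [1, 0, 1, 1, 1], [1, 0, 2, 0, 1], [1, 0, 2, 0, 2], [1, 0, 2, 2, 0], [1, 1, 0, 2, 0], [1, 1, 0, 2, 2], [1, 1,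 1, 0, 1], [1, 1, 1, 0, 2], [2, 0, 1, 0, 1], [2, 0, 1, 0, 2], [2, 0, 1, 1, 0], [2, 0, 1, 1, 1], [2, 2, 0, 1, 0], [2, 2, 0, 1, 1], [0, 1, 0, 1, 1, 1], [0, 1, 0, 2, 0, 1], [0, 1, 0, 2, 2, 0], [0, 1, 1, 0, 2, 0], [0, 1, 1, 1, 0, 1], [0, 1, 1, 1, 0, 2], [0, 2, 0, 1, 0, 2], [0, 2, 0, 1, 1, 0], [0, 2, 0, 1, 1, 1], [0, 2, 2, 0, 1, 0], [1, 0, 1, 1, 1, 0], [1, 0, 2, 0, 1, 0], [1, 0, 2, 0, 1, 1], [1, 0, 2, 2, 0, 1], [1, 1, 0, 2, 0, 1], [1, 1, 0, 2, 0, 2], [1, 1, 1, 0, 2, 0], [2, 0, 1, 0, 2, 0], [2, 0, 1, 0, 2, 2], [2, 0, 1, 1, 1, 0], [2, 2, 0, 1, 0, 2], [0, 1, 0, 1, 1, 1, 0], [0, 1, 0, 2, 0, 1, 0], [0, 1, 0, 2, 2, 0, 1], [0, 1, 1, 0, 2, 0, 1], [0, 1, 1, 0, 2, 0, 2], [0, 1, 1, 1, 0, 2, 0], [0, 2, 0, 1, 0, 2, 0], [0, 2, 0, 1, 1, 1, 0], [0, 2, 2, 0, 1, 0, 2], [1, 0, 1, 1, 1, 0, 1], [1, 0, 1, 1,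 1, 0, 2], [1, 0, 2, 0, 1, 0, 2], [1, 0, 2, 0, 1, 1, 0], [1, 0, 2, 2, 0, 1, 0], [1, 1, 0, 2, 0, 1, 1], [2, 0, 1, 0, 2, 0, 1], [2, 0, 1, 0, 2, 2, 0], [2, 0, 1, 1, 1, 0, 1], [2, 0, 1, 1, 1, 0, 2], [2, 2, 0, 1, 0, 2, 2], [0, 1, 0, 1, 1, 1, 0, 2], [0, 1, 0, 2, 0, 1, 0, 2], [0, 1, 0, 2, 2, 0, 1, 0], [0, 1, 1, 0, 2, 0, 1, 1], [0, 2, 0, 1, 0, 2, 0, 1], [0, 2, 0, 1, 1, 1, 0, 1], [0, 2, 2, 0, 1, 0, 2, 2], [1, 0, 1, 1, 1, 0, 2, 0], [1, 0, 2, 0, 1, 0, 2, 0], [1, 0, 2, 2, 0, 1, 0, 2], [2, 0, 1, 0, 2, 0, 1, 0], [0, 1, 0, 1, 1, 1, 0, 2, 0], [0, 1, 0, 2, 0, 1, 0, 2, 0], [0, 1, 0, 2, 2, 0, 1, 0, 2], [0, 2, 0, 1, 0, 2, 0, 1, 0], [1, 0, 2, 0, 1, 0, 2, 0, 1], [0, 1, 0, 2, 0, 1, 0, 2, 0, 1]]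

/-- The word of the element of order 11. -/
def wordPA : List ℕ := [0, 3, 1, 1, 0, 1, 0, 2, 3, 2, 2, 0, 1, 3, 2, 2, 3, 0, 1, 1, 0, 2]

/-- The word of the involution. -/
def wordPB : List ℕ := [2, 0, 1, 1, 1, 0, 2, 2, 0, 3, 1, 1, 3, 1, 1, 1, 0, 1]

end CfsgLib.Sporadic.CosetCert.HNDouble
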