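import Cfsg.Agent.Lib.Sporadic.HNDouble.Reading
import Cfsg.Agent.Lib.Sporadic.HNDouble.PermData
import Cfsg.Agent.Lib.Sporadic.HNDouble.CertA
import Cfsg.Agent.Lib.Sporadic.HNDouble.CertU
import Cfsg.Agent.Lib.Sporadic.HNDouble.CertQ
import Cfsg.Agent.Lib.Sporadic.HNDouble.CertX6
import Cfsg.Agent.Lib.Sporadic.HNDouble.CertX7

/-!
# Kernel checks on the permutations and certificates

-/

set_option autoImplicit false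
set_option maxRecDepth 100000

namespace CfsgLib.Sporadic.CosetCert.HNDouble

open OutCert

theorem keys_valid : validK 7 100 kX kX = true ∧ validK 7 100 kY kYi = true ∧
    validK 7 100 kZ kZ = true := by decide +kernel

/-- The number of a product of letters. -/
noncomputable def keyW (k : ℕ → ℕ) : List ℕ → ℕ
  | [] => oneK 7 100
  | x :: t => compK 7 100 (keyW k t) (k x)

theorem invs_certA : certA.inv 0 = 0 ∧ certA.inv 1 = 2 ∧ certA.inv 2 = 1 := by decide +kernel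
theorem invs_certU : certU.inv 0 = 0 ∧ certU.inv 1 = 2 ∧ certU.inv 2 = 1 := by decide +kernel
theorem invs_certX6 : certX6.inv 0 = 0 ∧ certX6.inv 1 = 2 ∧ certX6.inv 2 = 1 := by decide +kernel
theorem invs_certX7 : certX7.inv 0 = 0 ∧ certX7.inv 1 = 2 ∧ certX7.inv 2 = 1 := by decide +kernel
theorem invs_certQ : certQ.inv 0 = 0 ∧ certQ.inv 1 = 2 ∧ certQ.inv 2 = 1 ∧ certQ.inv 3 = 3 := by
  decide +kernel

theorem letters_certA : (List.range certA.words.length).map certA.letters =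
    [[1, 1, 1, 1, 1, 1], [1, 0, 1, 0, 1, 0, 1, 0], [0, 1, 1, 0, 1, 1, 0, 1, 1], [1]] ∧
    certA.nr = 3 ∧ certA.words.length = 4 ∧ certA.nl = 3 ∧ certA.N = 20 := by decide +kernel

theorem letters_certX6 : (List.range certX6.words.length).map certX6.letters =
    [[1, 1, 1, 1, 1, 1], [1, 0, 2, 0, 1, 0, 2, 0, 1, 0, 2, 0],
      [1, 1, 1, 0, 1, 1, 0, 1, 1, 1, 0, 1, 1, 0, 1, 1, 1, 0, 1, 1, 0],
      [1, 0, 1, 0, 1, 0, 1, 0, 1, 0, 1, 0, 1, 0, 1, 0],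
      [1, 1, 1, 0, 1, 0, 1, 1, 1, 0, 1, 0, 1, 1, 1, 0, 1, 0, 1, 1, 1, 0, 1, 0],
      [1], [0, 1, 1, 1, 0]] ∧
    certX6.nr = 5 ∧ certX6.words.length = 7 ∧ certX6.nl = 3 ∧ certX6.N = 6300 := by decide +kernel

theorem letters_certU : (List.range certU.words.length).map certU.letters =
    [[1, 1, 1, 1, 1, 1], [1, 0, 2, 0, 1, 0, 2, 0, 1, 0, 2, 0],
      [1, 1, 1, 0, 1, 1, 0, 1, 1, 1, 0, 1, 1, 0, 1, 1, 1, 0, 1, 1, 0],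
      [1, 0, 1, 0, 1, 0, 1, 0, 1, 0, 1, 0, 1, 0, 1, 0],
      [1, 1, 1, 0, 1, 0, 1, 1, 1, 0, 1, 0, 1, 1, 1, 0, 1, 0, 1, 1, 1, 0, 1, 0],
      [0], [2, 0, 1, 1, 0, 1, 0, 1]] ∧
    certU.nr = 5 ∧ certU.words.length = 7 ∧ certU.nl = 3 ∧ certU.N = 50 := by decide +kernel

theorem letters_certX7 : (List.range certX7.words.length).map certX7.letters =
    [[1, 1, 1, 1, 1, 1], [1, 0, 2, 0, 1, 0, 2, 0, 1, 0, 2, 0],
      [1, 1, 1, 0, 1, 1, 0, 1, 1, 1, 0, 1, 1, 0, 1, 1, 1, 0, 1, 1, 0],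
      [1, 0, 1, 0, 1, 0, 1, 0, 1, 0, 1, 0, 1, 0, 1, 0],
      [1, 1, 1, 0, 1, 0, 1, 1, 1, 0, 1, 0, 1, 1, 1, 0, 1, 0, 1, 1, 1, 0, 1, 0],
      [2, 2, 0, 1, 0, 1, 0, 2, 2, 0, 1, 1, 0, 2, 0, 2, 0, 1, 1, 0], [1], [0, 1, 1, 1, 0]] ∧
    certX7.nr = 6 ∧ certX7.words.length = 8 ∧ certX7.nl = 3 ∧ certX7.N = 2100 := by decide +kernel

theorem letters_certQ : (List.range certQ.words.length).map certQ.letters =
    [[1, 1, 1, 1, 1, 1], [1, 0, 2, 0, 1, 0, 2, 0, 1, 0, 2, 0],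
      [1, 1, 1, 0, 1, 1, 0, 1, 1, 1, 0, 1, 1, 0, 1, 1, 1, 0, 1, 1, 0],
      [1, 0, 1, 0, 1, 0, 1, 0, 1, 0, 1, 0, 1, 0, 1, 0],
      [1, 1, 1, 0, 1, 0, 1, 1, 1, 0, 1, 0, 1, 1, 1, 0, 1, 0, 1, 1, 1, 0, 1, 0],
      [2, 2, 0, 1, 0, 1, 0, 2, 2, 0, 1, 1, 0, 2, 0, 2, 0, 1, 1, 0],
      [0, 3, 0, 3], [2, 0, 1, 1, 0, 1, 0, 1, 3, 2, 0, 2, 0, 2, 2, 0, 1, 3],
      [0, 1, 0, 1, 0, 1, 1, 1, 3, 2, 2, 2, 0, 2, 0, 2, 0, 1, 0, 1, 0, 1, 1, 1, 3, 2, 2, 2, 0, 2, 0,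
        2, 0, 1, 0, 1, 0, 1, 1, 1, 3, 2, 2, 2, 0, 2, 0, 2, 3],
      [0], [1]] ∧
    certQ.nr = 9 ∧ certQ.words.length = 11 ∧ certQ.nl = 4 ∧ certQ.N = 352 := by decide +kernel

theorem kS_eq : compK 7 100 (compK 7 100 kX (compK 7 100 (compK 7 100 kY kY) kY)) kX = kS := by
  decide +kernel

theorem wordsA_ok : (wordsA.map fun L => (List.range 100).map (lk 7
      (keyW (fun x => [kS, kY, kYi].getD x (oneK 7 100)) L))).Nodup ∧ wordsA.length = 120 := by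
  decide +kernel

theorem words_check :
    keyW (fun x => [kX, kY, kYi].getD x (oneK 7 100))
        [2, 2, 0, 1, 0, 1, 0, 2, 2, 0, 1, 1, 0, 2, 0, 2, 0, 1, 1, 0] = oneK 7 100 ∧
    traceW certX6 50078 [2, 2, 0, 1, 0, 1, 0, 2, 2, 0, 1, 1, 0, 2, 0, 2, 0, 1, 1, 0,
      2, 2, 0, 1, 0, 1, 0, 2, 2, 0, 1, 1, 0, 2, 0, 2, 0, 1, 1, 0,
      2, 2, 0, 1, 0, 1, 0, 2, 2, 0, 1, 1, 0, 2, 0, 2, 0, 1, 1, 0] 0 = 1 ∧
    traceW certX6 50078 [0, 2, 2, 0, 1, 0, 1, 0, 2, 2, 0, 1, 1, 0, 2, 0, 2, 0, 2, 0, 1, 0, 1, 0, 2,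
      2, 0, 1, 1, 0, 2, 0, 2, 0, 1, 1, 0, 1] 0 = 1 ∧
    traceW certU 3717 [2, 2, 0, 1, 0, 1, 0, 2, 2, 0, 1, 1, 0, 2, 0, 2, 0, 1, 1, 0] 0 = 1 := by
  decide +kernel

end CfsgLib.Sporadic.CosetCert.HNDouble
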