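import Cfsg.Agent.Lib.Sporadic.PackedMatrix
import Cfsg.Agent.Lib.Sporadic.HNDouble.MatData
import Cfsg.Agent.Lib.Sporadic.HNDouble.PermData

/-!
# Kernel checks on the matrices
-/

set_option autoImplicit false
set_option maxRecDepth 100000

namespace CfsgLib.Sporadic.CosetCert.HNDouble

open PackedMatrix

/-- A power of a product of the matrices is one. -/
noncomputable def pow1 (L : List (List ℕ)) (e : ℕ) : Bool := powOne 19 133 L e

theorem oks : ok 19 133 mX = true ∧ ok 19 133 mXi = true ∧ ok 19 133 mY = true ∧ ok 19 133 mYi = true ∧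
    ok 19 133 mZ = true ∧ ok 19 133 mT = true ∧ ok 19 133 mTi = true ∧ ok 19 133 mV = true ∧
    ok 19 133 (PackedMatrix.one 133) = true := by decide +kernel

theorem invs : pow1 [mX, mXi] 1 = true ∧ pow1 [mY, mYi] 1 = true ∧ pow1 [mZ] 2 = true ∧
    pow1 [mT, mTi] 1 = true ∧ pow1 [mXi, mX] 1 = true ∧ pow1 [mYi, mY] 1 = true ∧
    pow1 [mTi, mT] 1 = true := by decide +kernel

theorem rel12 : pow1 [mY] 6 = true ∧ pow1 [mX, mX, mY, mX, mX, mYi] 1 = true := by decide +kernel

theorem rel34 : pow1 [mXi, mYi, mX, mY] 3 = true ∧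
    pow1 [mXi, mY, mY, mX, mY, mY, mY] 3 = true := by decide +kernel

theorem rel56 : pow1 [mX, mY] 8 = true ∧ pow1 [mX, mY, mX, mY, mY, mY] 4 = true := by decide +kernel

theorem rel89 : pow1 [mZ, mX] 2 = true ∧
    pow1 [mZ, mY, mXi, mYi, mYi, mXi, mYi, mXi, mYi, mZ, mY, mX, mY, mX, mY, mY, mX, mYi, mXi, mXi] 1 =
      true := by decide +kernel

theorem rel10 : pow1 ([mZ] ++ (List.replicate 3
    [mYi, mXi, mYi, mXi, mYi, mYi, mYi, mZ, mY, mY, mY, mX, mY, mX, mY, mX]).flatten) 1 = true := by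
  decide +kernel

theorem relT : pow1 [mT] 5 = true ∧ pow1 [mXi, mT, mX, mT, mT] 1 = true ∧
    pow1 [mTi, mYi, mT, mY] 1 = true ∧ pow1 [mZ, mT] 3 = true := by decide +kernel

/-- The product with the vectors permutes the rows as a permutation says. -/
noncomputable def moveK (k : ℕ) (M : List ℕ) : Bool :=
  forceList (mul 19 133 mV M) fun R =>
    (List.range 100).all fun i =>
      Nat.beq (R.getD (Nat.mod (Nat.shiftRight k (Nat.mul 7 i)) 128) 0) (mV.getD i 0)

theorem moves : moveK kX mX = true ∧ moveK kY mY = true ∧ moveK kZ mZ = true := by decide +kernel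

theorem mV_inj : (List.range 100).all (fun i => (List.range 100).all fun j =>
    Nat.beq i j || !Nat.beq (mV.getD i 0) (mV.getD j 0)) = true := by decide +kernel

end CfsgLib.Sporadic.CosetCert.HNDouble
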