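import Cfsg.Agent.Lib.Sporadic.HNDouble.Checks

/-!
# An upper bound for groups with the relations of `x, y, z` modulo `x ^ 2`

If `x, y, z` satisfy these relations and map to the given permutations of 100 points, then the extra
relation of the presentation of `U₃(5) : 2` follows, and the group has order at most 88704000.
-/

set_option autoImplicit false
set_option maxRecDepth 100000

namespace CfsgLib.Sporadic.CosetCert.HNDouble

open OutCert

attribute [local irreducible] lk pkF allF compK oneK validK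

/-- Permutations of the points. -/
abbrev P : Type := Equiv.Perm (Fin 100)

/-- The image of `x`. -/
noncomputable def sX : P := permOf kX kX keys_valid.1

/-- The image of `y`. -/
noncomputable def sY : P := permOf kY kYi keys_valid.2.1

/-- The image of `z`. -/
noncomputable def sZ : P := permOf kZ kZ keys_valid.2.2

theorem sX_inv : sX⁻¹ = sX := (rep_permOf_inv keys_valid.1).inj (rep_permOf keys_valid.1)

theorem sZ_inv : sZ⁻¹ = sZ := (rep_permOf_inv keys_valid.2.2).inj (rep_permOf keys_valid.2.2)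

variable {G : Type*} [Group G]

theorem rep_keyW {g : ℕ → P} {k : ℕ → ℕ} (h : ∀ x, Rep 7 100 (k x) (g x)) :
    ∀ L : List ℕ, Rep 7 100 (keyW k L) (appProd g L)
  | [] => rep_one (by norm_num)
  | x :: t => rep_comp (by norm_num) (rep_keyW h t) (h x)

theorem map_appProd {G' : Type*} [Group G'] (φ : G →* G') (g : ℕ → G) :
    ∀ L : List ℕ, φ (appProd g L) = appProd (fun x => φ (g x)) L
  | [] => map_one φ
  | x :: t => by
    show φ (appProd g t * g x) = _
    rw [map_mul, map_appProd φ g t]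
    rfl

variable (X Y Z : G)

/-- The word whose triviality is to be shown. -/
def wC : G := X * (Y⁻¹ * Y⁻¹ * X * Y * X * Y * X * Y⁻¹ * Y⁻¹)⁻¹ * X *
  (Y⁻¹ * Y⁻¹ * X * Y * X * Y * X * Y⁻¹ * Y⁻¹)

/-- The word commuting with `z`. -/
def wW : G := Y * X * Y * X * Y ^ 2 * X * Y⁻¹

/-- The word of the last relation. -/
def wU : G := Y ^ 3 * X * Y * X * Y

/-- The relations in `x` and `y`, with `x` an involution. -/
structure Rels : Prop where
  sq : X⁻¹ = X
  r1 : Y ^ 6 = 1
  r2 : (X * Y⁻¹ * X * Y) ^ 3 = 1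
  r3 : (X * Y ^ 2 * X * Y ^ 3) ^ 3 = 1
  r4 : (X * Y) ^ 8 = 1
  r5 : (X * Y * X * Y ^ 3) ^ 4 = 1

/-- Three letters. -/
def g3 : ℕ → G := fun x => [X, Y, Y⁻¹].getD x 1

/-- Four letters. -/
def g4 : ℕ → G := fun x => [X, Y, Y⁻¹, Z].getD x 1

/-- The subgroup of order 120. -/
def subA : Subgroup G := Subgroup.closure {Y, X * Y ^ 3 * X}

variable {X Y Z}

theorem g3_inv (hX : X⁻¹ = X) (a : ℕ → ℕ) (h0 : a 0 = 0) (h1 : a 1 = 2) (h2 : a 2 = 1) :
    ∀ x < 3, g3 X Y (a x) = (g3 X Y x)⁻¹ := by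
  intro x hx
  match x, hx with
  | 0, _ => rw [h0]; exact hX.symm
  | 1, _ => rw [h1]; rfl
  | 2, _ => rw [h2]; exact (inv_inv Y).symm
  | k + 3, h => omega

theorem g4_inv (hX : X⁻¹ = X) (hZ : Z⁻¹ = Z) (a : ℕ → ℕ) (h0 : a 0 = 0) (h1 : a 1 = 2) (h2 : a 2 = 1)
    (h3 : a 3 = 3) : ∀ x < 4, g4 X Y Z (a x) = (g4 X Y Z x)⁻¹ := by
  intro x hx
  match x, hx with
  | 0, _ => rw [h0]; exact hX.symm
  | 1, _ => rw [h1]; rfl
  | 2, _ => rw [h2]; exact (inv_inv Y).symm
  | 3, _ => rw [h3]; exact hZ.symm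
  | k + 4, h => omega

theorem reads_of {C : Cert} {g : ℕ → G} {S : Subgroup G} (h1 : g C.nl = 1)
    (h2 : ∀ x < C.nl, g (C.inv x) = (g x)⁻¹) (W : List (List ℕ))
    (hW : (List.range C.words.length).map C.letters = W)
    (h : ∀ i < W.length, (i < C.nr → appProd g (W.getD i []) = 1) ∧
      (C.nr ≤ i → appProd g (W.getD i []) ∈ S)) (hnr : C.nr ≤ C.words.length) : Reads C g S := by
  have e : ∀ i < C.words.length, C.letters i = W.getD i [] ∧ i < W.length := by
    intro i hi
    subst hW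
    refine ⟨?_, by simpa using hi⟩
    rw [List.getD_eq_getElem _ _ (by simpa using hi)]
    simp
  refine ⟨h1, h2, fun i hi => ?_, fun i hi hge => ?_⟩
  · obtain ⟨ei, hl⟩ := e i (lt_of_lt_of_le hi hnr)
    rw [ei]
    exact (h i hl).1 hi
  · obtain ⟨ei, hl⟩ := e i hi
    rw [ei]
    exact (h i hl).2 hge

/-- Unfold products of literal lists of letters. -/
local macro "letters_simp" : tactic =>
  `(tactic| simp only [appProd, g3, g4, List.getD_cons_zero, List.getD_cons_succ, one_mul, pow_succ,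
      pow_zero, wC, wW, wU, mul_inv_rev, inv_inv, mul_assoc])

theorem reads_X6 (h : Rels X Y) : Reads certX6 (g3 X Y) (subA X Y) := by
  obtain ⟨hl, hnr, hlen, hnl, -⟩ := letters_certX6
  obtain ⟨i0, i1, i2⟩ := invs_certX6
  refine reads_of (by rw [hnl]; rfl) (hnl ▸ g3_inv h.sq _ i0 i1 i2) _ hl ?_ (by omega)
  intro i hi
  rw [hnr]
  match i, hi with
  | 0, _ => exact ⟨fun _ => (by letters_simp : _ = Y ^ 6).trans h.r1, fun c => by omega⟩
  | 1, _ => exact ⟨fun _ => (by letters_simp : _ = (X * Y⁻¹ * X * Y) ^ 3).trans h.r2, fun c => by omega⟩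
  | 2, _ => exact ⟨fun _ => (by letters_simp : _ = (X * Y ^ 2 * X * Y ^ 3) ^ 3).trans h.r3, fun c => by omega⟩
  | 3, _ => exact ⟨fun _ => (by letters_simp : _ = (X * Y) ^ 8).trans h.r4, fun c => by omega⟩
  | 4, _ => exact ⟨fun _ => (by letters_simp : _ = (X * Y * X * Y ^ 3) ^ 4).trans h.r5, fun c => by omega⟩
  | 5, _ => exact ⟨fun c => by omega, fun _ => Subgroup.subset_closure (Or.inl (by letters_simp : _ = Y))⟩
  | 6, _ => exact ⟨fun c => by omega, fun _ => Subgroup.subset_closure (Or.inr (by letters_simp : _ = X * Y ^ 3 * X))⟩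
  | k + 7, c => simp at c

theorem reads_X7 (h : Rels X Y) (hc : wC X Y = 1) : Reads certX7 (g3 X Y) (subA X Y) := by
  obtain ⟨hl, hnr, hlen, hnl, -⟩ := letters_certX7
  obtain ⟨i0, i1, i2⟩ := invs_certX7
  refine reads_of (by rw [hnl]; rfl) (hnl ▸ g3_inv h.sq _ i0 i1 i2) _ hl ?_ (by omega)
  intro i hi
  rw [hnr]
  match i, hi with
  | 0, _ => exact ⟨fun _ => (by letters_simp : _ = Y ^ 6).trans h.r1, fun c => by omega⟩
  | 1, _ => exact ⟨fun _ => (by letters_simp : _ = (X * Y⁻¹ * X * Y) ^ 3).trans h.r2, fun c => by omega⟩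
  | 2, _ => exact ⟨fun _ => (by letters_simp : _ = (X * Y ^ 2 * X * Y ^ 3) ^ 3).trans h.r3, fun c => by omega⟩
  | 3, _ => exact ⟨fun _ => (by letters_simp : _ = (X * Y) ^ 8).trans h.r4, fun c => by omega⟩
  | 4, _ => exact ⟨fun _ => (by letters_simp : _ = (X * Y * X * Y ^ 3) ^ 4).trans h.r5, fun c => by omega⟩
  | 5, _ => exact ⟨fun _ => (by letters_simp; simp only [h.sq] : _ = wC X Y).trans hc, fun c => by omega⟩
  | 6, _ => exact ⟨fun c => by omega, fun _ => Subgroup.subset_closure (Or.inl (by letters_simp : _ = Y))⟩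
  | 7, _ => exact ⟨fun c => by omega, fun _ => Subgroup.subset_closure (Or.inr (by letters_simp : _ = X * Y ^ 3 * X))⟩
  | k + 8, c => simp at c

theorem reads_U (h : Rels X Y) : Reads certU (g3 X Y) (Subgroup.closure {X, wW X Y}) := by
  obtain ⟨hl, hnr, hlen, hnl, -⟩ := letters_certU
  obtain ⟨i0, i1, i2⟩ := invs_certU
  refine reads_of (by rw [hnl]; rfl) (hnl ▸ g3_inv h.sq _ i0 i1 i2) _ hl ?_ (by omega)
  intro i hi
  rw [hnr]
  match i, hi with
  | 0, _ => exact ⟨fun _ => (by letters_simp : _ = Y ^ 6).trans h.r1, fun c => by omega⟩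
  | 1, _ => exact ⟨fun _ => (by letters_simp : _ = (X * Y⁻¹ * X * Y) ^ 3).trans h.r2, fun c => by omega⟩
  | 2, _ => exact ⟨fun _ => (by letters_simp : _ = (X * Y ^ 2 * X * Y ^ 3) ^ 3).trans h.r3, fun c => by omega⟩
  | 3, _ => exact ⟨fun _ => (by letters_simp : _ = (X * Y) ^ 8).trans h.r4, fun c => by omega⟩
  | 4, _ => exact ⟨fun _ => (by letters_simp : _ = (X * Y * X * Y ^ 3) ^ 4).trans h.r5, fun c => by omega⟩
  | 5, _ => exact ⟨fun c => by omega, fun _ => Subgroup.subset_closure (Or.inl (by letters_simp : _ = X))⟩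
  | 6, _ => exact ⟨fun c => by omega, fun _ => Subgroup.subset_closure (Or.inr (by letters_simp : _ = wW X Y))⟩
  | k + 7, c => simp at c

theorem reads_Q (h : Rels X Y) (hc : wC X Y = 1) (hZ : Z⁻¹ = Z) (hzx : Z * X * Z * X = 1)
    (hzw : Z * (wW X Y)⁻¹ * Z * wW X Y = 1)
    (h10 : Z * ((wU X Y)⁻¹ * Z * wU X Y * X) ^ 3 = 1) :
    Reads certQ (g4 X Y Z) (Subgroup.closure {X, Y}) := by
  obtain ⟨hl, hnr, hlen, hnl, -⟩ := letters_certQ
  obtain ⟨i0, i1, i2, i3⟩ := invs_certQ
  refine reads_of (by rw [hnl]; rfl) (hnl ▸ g4_inv h.sq hZ _ i0 i1 i2 i3) _ hl ?_ (by omega)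
  intro i hi
  rw [hnr]
  match i, hi with
  | 0, _ => exact ⟨fun _ => (by letters_simp : _ = Y ^ 6).trans h.r1, fun c => by omega⟩
  | 1, _ => exact ⟨fun _ => (by letters_simp : _ = (X * Y⁻¹ * X * Y) ^ 3).trans h.r2, fun c => by omega⟩
  | 2, _ => exact ⟨fun _ => (by letters_simp : _ = (X * Y ^ 2 * X * Y ^ 3) ^ 3).trans h.r3, fun c => by omega⟩
  | 3, _ => exact ⟨fun _ => (by letters_simp : _ = (X * Y) ^ 8).trans h.r4, fun c => by omega⟩
  | 4, _ => exact ⟨fun _ => (by letters_simp : _ = (X * Y * X * Y ^ 3) ^ 4).trans h.r5, fun c => by omega⟩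
  | 5, _ => exact ⟨fun _ => (by letters_simp; simp only [h.sq] : _ = wC X Y).trans hc, fun c => by omega⟩
  | 6, _ => exact ⟨fun _ => (by letters_simp : _ = Z * X * Z * X).trans hzx, fun c => by omega⟩
  | 7, _ => exact ⟨fun _ => (by letters_simp; simp only [h.sq] : _ = Z * (wW X Y)⁻¹ * Z * wW X Y).trans hzw, fun c => by omega⟩
  | 8, _ => exact ⟨fun _ => (by letters_simp; simp only [h.sq] : _ = Z * ((wU X Y)⁻¹ * Z * wU X Y * X) ^ 3).trans h10, fun c => by omega⟩
  | 9, _ => exact ⟨fun c => by omega, fun _ => Subgroup.subset_closure (Or.inl (by letters_simp : _ = X))⟩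
  | 10, _ => exact ⟨fun c => by omega, fun _ => Subgroup.subset_closure (Or.inr (by letters_simp : _ = Y))⟩
  | k + 11, c => simp at c

theorem closure_g3 : Subgroup.closure (g3 X Y '' Set.Iio 3) = Subgroup.closure {X, Y} := by
  apply le_antisymm
  · rw [Subgroup.closure_le]
    rintro _ ⟨x, hx, rfl⟩
    match x, hx with
    | 0, _ => exact Subgroup.subset_closure (Or.inl rfl)
    | 1, _ => exact Subgroup.subset_closure (Or.inr rfl)
    | 2, _ => exact inv_mem (Subgroup.subset_closure (Or.inr rfl))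
    | k + 3, h => simp at h
  · rw [Subgroup.closure_le]
    rintro _ (rfl | rfl)
    · exact Subgroup.subset_closure ⟨0, by norm_num, rfl⟩
    · exact Subgroup.subset_closure ⟨1, by norm_num, rfl⟩

theorem subA_le : subA X Y ≤ Subgroup.closure {X, Y} := by
  have hx : X ∈ Subgroup.closure {X, Y} := Subgroup.subset_closure (Or.inl rfl)
  have hy : Y ∈ Subgroup.closure {X, Y} := Subgroup.subset_closure (Or.inr rfl)
  rw [subA, Subgroup.closure_le]
  rintro _ (rfl | rfl)
  · exact hy
  · exact mul_mem (mul_mem hx (pow_mem hy 3)) hx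

theorem card_subA (h : Rels X Y) : Nat.card (subA X Y) ≤ 120 ∧ Nat.card (subA X Y) ≠ 0 := by
  have hXX : X * X = 1 := by
    calc X * X = X⁻¹ * X := by rw [h.sq]
      _ = 1 := inv_mul_cancel X
  obtain ⟨s, hs⟩ : ∃ s, s = X * Y ^ 3 * X := ⟨_, rfl⟩
  have hss : s⁻¹ = s := by
    rw [hs, mul_inv_rev, mul_inv_rev, h.sq, ← mul_assoc]
    congr 2
    apply inv_eq_of_mul_eq_one_right
    rw [← pow_add]
    exact h.r1
  have h8 : (s * Y) ^ 4 = 1 := by
    have := pow_swap_eq_one (a := X * Y) (b := X * Y ^ 3) (n := 4) (by rw [← mul_assoc]; exact h.r5)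
    rw [hs]
    simpa only [mul_assoc] using this
  have h9 : (Y * Y * s) ^ 3 = 1 := by
    have := pow_swap_eq_one (a := X) (b := Y ^ 2 * X * Y ^ 3) (n := 3)
      (by simpa only [mul_assoc] using h.r3)
    rw [hs, ← pow_two]
    simpa only [mul_assoc] using this
  obtain ⟨hl, hnr, hlen, hnl, hN⟩ := letters_certA
  obtain ⟨i0, i1, i2⟩ := invs_certA
  have hR : Reads certA (g3 s Y) (Subgroup.zpowers Y) := by
    refine reads_of (by rw [hnl]; rfl) (hnl ▸ g3_inv hss _ i0 i1 i2) _ hl ?_ (by omega)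
    intro i hi
    rw [hnr]
    match i, hi with
    | 0, _ => exact ⟨fun _ => (by letters_simp : _ = Y ^ 6).trans h.r1, fun c => by omega⟩
    | 1, _ => exact ⟨fun _ => (by letters_simp : _ = (s * Y) ^ 4).trans h8, fun c => by omega⟩
    | 2, _ => exact ⟨fun _ => (by letters_simp : _ = (Y * Y * s) ^ 3).trans h9, fun c => by omega⟩
    | 3, _ => exact ⟨fun c => by omega, fun _ => by letters_simp; exact Subgroup.mem_zpowers Y⟩
    | k + 4, c => simp at c
  have h1 := hR.relIndex_le certA_valid (by omega : 0 < certA.N)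
  rw [hnl, hN, closure_g3, show Subgroup.closure {s, Y} = subA X Y by rw [subA, hs, Set.pair_comm]] at h1
  have hy : Y ∈ subA X Y := Subgroup.subset_closure (Set.mem_insert _ _)
  exact card_le_of_relIndex (Subgroup.zpowers_le.2 hy) h1
    (card_zpowers_le (n := 6) (by norm_num) h.r1)

theorem rep_getD {kl : List ℕ} {pl : List P} (h : List.Forall₂ (Rep 7 100) kl pl) :
    ∀ x, Rep 7 100 (kl.getD x (oneK 7 100)) (pl.getD x 1) := by
  induction h with
  | nil =>
    intro x
    rw [List.getD_nil, List.getD_nil]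
    exact rep_one (by norm_num)
  | cons h _ ih =>
    intro x
    cases x with
    | zero => rw [List.getD_cons_zero, List.getD_cons_zero]; exact h
    | succ x => rw [List.getD_cons_succ, List.getD_cons_succ]; exact ih x

theorem eq_one_of_key {g : ℕ → P} {k : ℕ → ℕ} (hk : ∀ x, Rep 7 100 (k x) (g x)) {L : List ℕ}
    (e : keyW k L = oneK 7 100) : appProd g L = 1 := by
  have r := rep_keyW hk L
  rw [e] at r
  exact r.inj (rep_one (by norm_num))

theorem injective_of_keys {g : ℕ → P} {k : ℕ → ℕ} (hk : ∀ x, Rep 7 100 (k x) (g x))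
    {W : List (List ℕ)} (hnd : (W.map fun L => (List.range 100).map (lk 7 (keyW k L))).Nodup)
    {n : ℕ} (hn : W.length = n) :
    Function.Injective fun i : Fin n => appProd g (W.getD i []) := by
  intro i j e
  have hi : (i : ℕ) < W.length := hn.symm ▸ i.2
  have hj : (j : ℕ) < W.length := hn.symm ▸ j.2
  change appProd g (W.getD i []) = appProd g (W.getD j []) at e
  rw [List.getD_eq_getElem _ _ hi, List.getD_eq_getElem _ _ hj] at e
  have ri := rep_keyW hk W[(i : ℕ)]
  have rj := rep_keyW hk W[(j : ℕ)]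
  rw [e] at ri
  apply Fin.ext
  apply (hnd.getElem_inj_iff (hi := by simpa using hi) (hj := by simpa using hj)).1
  simp only [List.getElem_map]
  refine List.map_congr_left fun u hu => ?_
  exact (ri ⟨u, List.mem_range.1 hu⟩).trans (rj ⟨u, List.mem_range.1 hu⟩).symm

/-- A homomorphism with the given images is injective on the subgroup of order 120. -/
theorem eq_one_of_mem_subA (h : Rels X Y) (π : G →* P) (hx : π X = sX) (hy : π Y = sY) {a : G}
    (ha : a ∈ subA X Y) (h1 : π a = 1) : a = 1 := by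
  obtain ⟨hle, hne⟩ := card_subA h
  have : Finite (subA X Y) := Nat.finite_of_card_ne_zero hne
  obtain ⟨s, hs⟩ : ∃ s, s = X * Y ^ 3 * X := ⟨_, rfl⟩
  have hg : ∀ x, g3 s Y x ∈ subA X Y := by
    intro x
    match x with
    | 0 => exact Subgroup.subset_closure (Or.inr hs)
    | 1 => exact Subgroup.subset_closure (Or.inl rfl)
    | 2 => exact inv_mem (Subgroup.subset_closure (Or.inl rfl))
    | k + 3 => exact one_mem _
  have hmem : ∀ L, appProd (g3 s Y) L ∈ subA X Y := by
    intro L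
    induction L with
    | nil => exact one_mem _
    | cons x t ih => exact mul_mem ih (hg x)
  have hπ : (fun x => π (g3 s Y x)) = fun x => [π s, π Y, (π Y)⁻¹].getD x 1 := by
    funext x
    match x with
    | 0 => rfl
    | 1 => rfl
    | 2 => exact map_inv π Y
    | k + 3 => exact map_one π
  have rS : Rep 7 100 kS (π s) := by
    have rX := rep_permOf keys_valid.1
    have rY := rep_permOf keys_valid.2.1
    rw [hs, map_mul, map_mul, pow_succ, pow_two, map_mul, map_mul, hx, hy, ← kS_eq]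
    exact rep_comp (by norm_num) (rep_comp (by norm_num) rX
      (rep_comp (by norm_num) (rep_comp (by norm_num) rY rY) rY)) rX
  have hk : ∀ x, Rep 7 100 ([kS, kY, kYi].getD x (oneK 7 100)) (π (g3 s Y x)) := by
    intro x
    rw [congrFun hπ x]
    refine rep_getD ?_ x
    refine List.Forall₂.cons rS (List.Forall₂.cons ?_ (List.Forall₂.cons ?_ List.Forall₂.nil))
    · rw [hy]; exact rep_permOf keys_valid.2.1
    · rw [hy]; exact rep_permOf_inv keys_valid.2.1
  let f : Fin 120 → π '' (subA X Y : Set G) := fun i =>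
    ⟨π (appProd (g3 s Y) (wordsA.getD i [])), appProd (g3 s Y) _, hmem _, rfl⟩
  have hf : Function.Injective f := by
    intro i j e
    apply injective_of_keys hk wordsA_ok.1 wordsA_ok.2
    have e' : π (appProd (g3 s Y) (wordsA.getD i [])) = π (appProd (g3 s Y) (wordsA.getD j [])) :=
      congrArg Subtype.val e
    rw [map_appProd, map_appProd] at e'
    exact e'
  have hfin : (π '' (subA X Y : Set G)).Finite := Set.toFinite _
  have : Finite (π '' (subA X Y : Set G)) := hfin.to_subtype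
  have h120 : 120 ≤ Nat.card (π '' (subA X Y : Set G)) := by
    simpa using Nat.card_le_card_of_injective f hf
  let p : subA X Y → π '' (subA X Y : Set G) := fun b => ⟨π b, b, b.2, rfl⟩
  have hp : Function.Surjective p := by
    rintro ⟨_, b, hb, rfl⟩
    exact ⟨⟨b, hb⟩, rfl⟩
  have hb : Function.Bijective p := (Nat.bijective_iff_surjective_and_card p).2
    ⟨hp, le_antisymm (hle.trans h120) (Nat.card_le_card_of_surjective p hp)⟩
  have e : p ⟨a, ha⟩ = p 1 := Subtype.ext (show π a = π ((1 : subA X Y) : G) by simpa using h1)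
  exact congrArg Subtype.val (hb.1 e)

/-- The word is trivial in the group. -/
theorem wC_eq_one (h : Rels X Y) (π : G →* P) (hx : π X = sX) (hy : π Y = sY) (hZ : Z⁻¹ = Z)
    (hzx : Z * X * Z * X = 1) (hzw : Z * (wW X Y)⁻¹ * Z * wW X Y = 1)
    (h10 : Z * ((wU X Y)⁻¹ * Z * wU X Y * X) ^ 3 = 1) : wC X Y = 1 := by
  obtain ⟨k1, k2, k3, k4⟩ := words_check
  set c := wC X Y with hc
  have hword : appProd (g3 X Y) [2, 2, 0, 1, 0, 1, 0, 2, 2, 0, 1, 1, 0, 2, 0, 2, 0, 1, 1, 0] = c := by
    rw [hc]; letters_simp; simp only [h.sq]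
  have hπc : π c = 1 := by
    rw [← hword, map_appProd]
    refine eq_one_of_key (fun x => ?_) k1
    have e : π (g3 X Y x) = [π X, π Y, (π Y)⁻¹].getD x 1 := by
      match x with
      | 0 => rfl
      | 1 => rfl
      | 2 => exact map_inv π Y
      | k + 3 => exact map_one π
    rw [e]
    refine rep_getD ?_ x
    refine List.Forall₂.cons ?_ (List.Forall₂.cons ?_ (List.Forall₂.cons ?_ List.Forall₂.nil))
    · rw [hx]; exact rep_permOf keys_valid.1
    · rw [hy]; exact rep_permOf keys_valid.2.1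
    · rw [hy]; exact rep_permOf_inv keys_valid.2.1
  have hXX : X * X = 1 := by
    calc X * X = X⁻¹ * X := by rw [h.sq]
      _ = 1 := inv_mul_cancel X
  -- the cube of the word is trivial
  have h3 : c ^ 3 = 1 := by
    refine eq_one_of_mem_subA h π hx hy ?_ (by rw [map_pow, hπc, one_pow])
    have hm := (reads_X6 h).mem_of_trace certX6_valid (top := 50078) (by decide +kernel) k2
    convert hm using 1
    rw [hc]; letters_simp; simp only [h.sq]
  -- it commutes with `y`
  have hcy : Commute Y c := by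
    have hm : Y * c * Y⁻¹ * c⁻¹ ∈ subA X Y := by
      have hm := (reads_X6 h).mem_of_trace certX6_valid (top := 50078) (by decide +kernel) k3
      convert hm using 1
      rw [hc]; letters_simp; simp only [h.sq, inv_mul_cancel_left, mul_inv_cancel_left]
    have h1 := eq_one_of_mem_subA h π hx hy hm (by simp [hπc])
    exact mul_inv_eq_iff_eq_mul.1 (mul_inv_eq_one.1 h1)
  -- it commutes with `z`
  have hcz : Commute Z c := by
    have hzX : Commute Z X := by
      show Z * X = X * Z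
      calc Z * X = (Z * X * Z * X) * (X⁻¹ * Z⁻¹) := by group
        _ = X * Z := by rw [hzx, one_mul, h.sq, hZ]
    have hzW : Commute Z (wW X Y) := by
      show Z * wW X Y = wW X Y * Z
      calc Z * wW X Y = wW X Y * Z⁻¹ * (Z * (wW X Y)⁻¹ * Z * wW X Y) := by group
        _ = wW X Y * Z := by rw [hzw, mul_one, hZ]
    have hm := (reads_U h).mem_of_trace certU_valid (top := 3717) (by decide +kernel) k4
    rw [hword] at hm
    have hle : Subgroup.closure {X, wW X Y} ≤ Subgroup.centralizer {Z} := by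
      rw [Subgroup.closure_le]
      rintro _ (rfl | rfl)
      · exact Subgroup.mem_centralizer_singleton_iff.2 hzX.symm.eq
      · exact Subgroup.mem_centralizer_singleton_iff.2 hzW.symm.eq
    exact (Subgroup.mem_centralizer_singleton_iff.1 (hle hm)).symm
  -- `x` inverts it
  have hcx : X * c * X = c⁻¹ := by
    obtain ⟨V, hV⟩ : ∃ V : G, c = X * V⁻¹ * X * V := ⟨_, rfl⟩
    rw [hV]
    simp only [mul_inv_rev, inv_inv, h.sq, ← mul_assoc, hXX, one_mul]
  -- the conjugates of `z` commute with it, up to sign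
  have hxy : ∀ g, g ∈ Subgroup.closure {X, Y} → g * c * g⁻¹ = c ∨ g * c * g⁻¹ = c⁻¹ := by
    intro g hg
    induction hg using Subgroup.closure_induction with
    | mem g hg =>
      rcases hg with rfl | rfl
      · exact Or.inr (by rw [h.sq]; exact hcx)
      · exact Or.inl (by rw [hcy.eq, mul_inv_cancel_right])
    | one => exact Or.inl (by group)
    | mul a b _ _ iha ihb =>
      have e : a * b * c * (a * b)⁻¹ = a * (b * c * b⁻¹) * a⁻¹ := by group
      have e' : a * c⁻¹ * a⁻¹ = (a * c * a⁻¹)⁻¹ := by group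
      rw [e]
      rcases ihb with q | q <;> rw [q] <;> rcases iha with p | p
      · exact Or.inl p
      · exact Or.inr p
      · exact Or.inr (by rw [e', p])
      · exact Or.inl (by rw [e', p, inv_inv])
    | inv a _ iha =>
      rcases iha with p | p
      · left
        calc a⁻¹ * c * a⁻¹⁻¹ = a⁻¹ * (a * c * a⁻¹) * a⁻¹⁻¹ := by rw [p]
          _ = c := by group
      · right
        calc a⁻¹ * c * a⁻¹⁻¹ = a⁻¹ * (a * c * a⁻¹)⁻¹ * a⁻¹⁻¹ := by simp only [p, inv_inv]
          _ = c⁻¹ := by group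
  have hU : wU X Y ∈ Subgroup.closure {X, Y} := by
    have mx : X ∈ Subgroup.closure {X, Y} := Subgroup.subset_closure (Or.inl rfl)
    have my : Y ∈ Subgroup.closure {X, Y} := Subgroup.subset_closure (Or.inr rfl)
    exact mul_mem (mul_mem (mul_mem (mul_mem (pow_mem my 3) mx) my) mx) my
  obtain ⟨s, hs⟩ : ∃ s, s = (wU X Y)⁻¹ * Z * wU X Y := ⟨_, rfl⟩
  have hsc : Commute s c := by
    have hc' : Commute Z (wU X Y * c * (wU X Y)⁻¹) := by
      rcases hxy _ hU with p | p <;> rw [p]
      · exact hcz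
      · exact hcz.inv_right
    show s * c = c * s
    rw [hs]
    calc (wU X Y)⁻¹ * Z * wU X Y * c
        = (wU X Y)⁻¹ * (Z * (wU X Y * c * (wU X Y)⁻¹)) * wU X Y := by group
      _ = (wU X Y)⁻¹ * ((wU X Y * c * (wU X Y)⁻¹) * Z) * wU X Y := by rw [hc'.eq]
      _ = c * ((wU X Y)⁻¹ * Z * wU X Y) := by group
  have hconj : (s * X) * c * (s * X)⁻¹ = c⁻¹ := by
    rw [show (s * X) * c * (s * X)⁻¹ = s * (X * c * X⁻¹) * s⁻¹ by group, h.sq, hcx,
      hsc.inv_right.eq, mul_inv_cancel_right]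
  have hinv : c⁻¹ = c := by
    rw [← hs] at h10
    obtain ⟨t, ht⟩ : ∃ t, t = s * X := ⟨_, rfl⟩
    rw [← ht] at h10 hconj
    have hconj' : t * c⁻¹ * t⁻¹ = c := by
      rw [show t * c⁻¹ * t⁻¹ = (t * c * t⁻¹)⁻¹ by group, hconj, inv_inv]
    calc c⁻¹ = t * (t * (t * c * t⁻¹) * t⁻¹) * t⁻¹ := by rw [hconj, hconj', hconj]
      _ = t ^ 3 * c * (t ^ 3)⁻¹ := by simp only [pow_succ, pow_zero, one_mul, mul_inv_rev, mul_assoc]
      _ = c := by
        rw [show t ^ 3 = Z⁻¹ from eq_inv_of_mul_eq_one_right h10, hcz.inv_left.eq,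
          mul_inv_cancel_right]
  calc c = c ^ 3 := by rw [pow_succ, pow_two, show c * c = 1 from
        (congrArg (· * c) hinv.symm).trans (inv_mul_cancel c), one_mul]
    _ = 1 := h3

/-- The bound on the order. -/
theorem card_le (h : Rels X Y) (π : G →* P) (hx : π X = sX) (hy : π Y = sY) (hZ : Z⁻¹ = Z)
    (hzx : Z * X * Z * X = 1) (hzw : Z * (wW X Y)⁻¹ * Z * wW X Y = 1)
    (h10 : Z * ((wU X Y)⁻¹ * Z * wU X Y * X) ^ 3 = 1) (htop : Subgroup.closure {X, Y, Z} = ⊤) :
    Nat.card G ≤ 88704000 ∧ Nat.card G ≠ 0 := by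
  have hc := wC_eq_one h π hx hy hZ hzx hzw h10
  have h7 := (reads_X7 h hc).relIndex_le certX7_valid (by rw [letters_certX7.2.2.2.2]; norm_num)
  rw [letters_certX7.2.2.2.1, letters_certX7.2.2.2.2, closure_g3] at h7
  have hH := card_le_of_relIndex subA_le h7 (card_subA h)
  have hQ := (reads_Q h hc hZ hzx hzw h10).relIndex_le certQ_valid
    (by rw [letters_certQ.2.2.2.2]; norm_num)
  have h4 : Subgroup.closure (g4 X Y Z '' Set.Iio 4) = ⊤ := by
    rw [eq_top_iff, ← htop, Subgroup.closure_le]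
    rintro _ (rfl | rfl | rfl)
    · exact Subgroup.subset_closure ⟨0, by norm_num, rfl⟩
    · exact Subgroup.subset_closure ⟨1, by norm_num, rfl⟩
    · exact Subgroup.subset_closure ⟨3, by norm_num, rfl⟩
  rw [letters_certQ.2.2.2.1, letters_certQ.2.2.2.2, h4] at hQ
  have := card_le_of_relIndex le_top hQ hH
  rw [Subgroup.card_top] at this
  exact this

end CfsgLib.Sporadic.CosetCert.HNDouble
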