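import Cfsg.Prelude.Def_Spor_HN
import Cfsg.Agent.Lib.Sporadic.HNDouble.MatChecks
import Cfsg.Agent.Lib.Sporadic.HNDouble.Order
import Mathlib.LinearAlgebra.Matrix.GeneralLinearGroup.Defs

/-!
# A representation of degree 133 over the field with 19 elements of the presented Harada-Norton group

The matrices of `x, y, z` permute 100 vectors; this gives the action of the subgroup generated by them
on 100 points.
-/

set_option autoImplicit false
set_option maxRecDepth 100000

namespace CfsgLib.Sporadic.CosetCert.HNDouble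

open PackedMatrix OutCert

attribute [local irreducible] PackedMatrix.mul PackedMatrix.ok powOne chain PackedMatrix.one dig dec
  mX mXi mY mYi mZ mT mTi mV lk pkF allF compK oneK validK

/-- Matrices of degree 133. -/
abbrev M133 : Type := Matrix (Fin 133) (Fin 133) (ZMod 19)

/-- The matrix of packed rows. -/
noncomputable def md (A : List ℕ) : M133 := dec 19 133 A

theorem pow1_spec {L : List (List ℕ)} {e : ℕ} (h : pow1 L e = true)
    (hL : ∀ B ∈ L, ok 19 133 B = true) : (L.map md).prod ^ e = 1 :=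
  powOne_spec (p := 19) (n := 133) (by norm_num) (by norm_num) (by norm_num) oks.2.2.2.2.2.2.2.2 hL h

theorem ok_all : ∀ B ∈ [mX, mXi, mY, mYi, mZ, mT, mTi], ok 19 133 B = true := by
  obtain ⟨h1, h2, h3, h4, h5, h6, h7, -, -⟩ := oks
  intro B hB
  simp only [List.mem_cons, List.not_mem_nil, or_false] at hB
  rcases hB with rfl | rfl | rfl | rfl | rfl | rfl | rfl <;> assumption

theorem ok_sub {L : List (List ℕ)} (h : ∀ B ∈ L, B ∈ [mX, mXi, mY, mYi, mZ, mT, mTi]) :
    ∀ B ∈ L, ok 19 133 B = true := fun B hB => ok_all B (h B hB)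

theorem inv_pairs : md mX * md mXi = 1 ∧ md mXi * md mX = 1 ∧ md mY * md mYi = 1 ∧ md mYi * md mY = 1 ∧
    md mZ * md mZ = 1 ∧ md mT * md mTi = 1 ∧ md mTi * md mT = 1 := by
  obtain ⟨h1, h2, h3, h4, h5, h6, h7⟩ := invs
  have e : ∀ {A B : List ℕ}, pow1 [A, B] 1 = true → ok 19 133 A = true → ok 19 133 B = true →
      md A * md B = 1 := by
    intro A B h hA hB
    simpa using pow1_spec h (by simp [hA, hB])
  obtain ⟨o1, o2, o3, o4, o5, o6, o7, -, -⟩ := oks
  refine ⟨e h1 o1 o2, e h5 o2 o1, e h2 o3 o4, e h6 o4 o3, ?_, e h4 o6 o7, e h7 o7 o6⟩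
  simpa [pow_two] using pow1_spec h3 (by simp [o5])

open Cfsg.Spor

/-- The matrix of a generator. -/
noncomputable def genMat : HN.Gen → M133ˣ
  | .x => ⟨md mX, md mXi, inv_pairs.1, inv_pairs.2.1⟩
  | .y => ⟨md mY, md mYi, inv_pairs.2.2.1, inv_pairs.2.2.2.1⟩
  | .z => ⟨md mZ, md mZ, inv_pairs.2.2.2.2.1, inv_pairs.2.2.2.2.1⟩
  | .t => ⟨md mT, md mTi, inv_pairs.2.2.2.2.2.1, inv_pairs.2.2.2.2.2.2⟩

theorem gen_rel {R : Type*} [Monoid R] (u : HN.Gen → Rˣ) {X Xi Y Yi Z T Ti : R}
    (hx : (u .x).val = X) (hxi : ((u .x)⁻¹).val = Xi) (hy : (u .y).val = Y) (hyi : ((u .y)⁻¹).val = Yi)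
    (hz : (u .z).val = Z) (hzi : ((u .z)⁻¹).val = Z) (ht : (u .t).val = T) (hti : ((u .t)⁻¹).val = Ti)
    (r1 : [Y].prod ^ 6 = 1) (r2 : [X, X, Y, X, X, Yi].prod ^ 1 = 1) (r3 : [Xi, Yi, X, Y].prod ^ 3 = 1)
    (r4 : [Xi, Y, Y, X, Y, Y, Y].prod ^ 3 = 1) (r5 : [X, Y].prod ^ 8 = 1)
    (r6 : [X, Y, X, Y, Y, Y].prod ^ 4 = 1) (r7 : [Z].prod ^ 2 = 1) (r8 : [Z, X].prod ^ 2 = 1)
    (r9 : [Z, Y, Xi, Yi, Yi, Xi, Yi, Xi, Yi, Z, Y, X, Y, X, Y, Y, X, Yi, Xi, Xi].prod ^ 1 = 1)
    (r10 : ([Z] ++ (List.replicate 3 [Yi, Xi, Yi, Xi, Yi, Yi, Yi, Z, Y, Y, Y, X, Y, X, Y, X]).flatten).prod ^ 1 = 1)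
    (r11 : [T].prod ^ 5 = 1) (r12 : [Xi, T, X, T, T].prod ^ 1 = 1)
    (r13 : [Ti, Yi, T, Y].prod ^ 1 = 1) (r14 : [Z, T].prod ^ 3 = 1) :
    ∀ r ∈ coxRelators HN.edges ∪ {r | r ∈ HN.extra}, FreeGroup.lift u r = 1 := by
  rintro r (⟨a, ha, -⟩ | hr)
  · exact absurd ha (by simp [coxNodes, HN.edges])
  simp only [HN.extra, Set.mem_ofPred_eq, List.mem_cons, List.not_mem_nil, or_false] at hr
  apply Units.ext
  rcases hr with rfl | rfl | rfl | rfl | rfl | rfl | rfl | rfl | rfl | rfl | rfl | rfl | rfl | rfl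
  all_goals simp only [map_mul, map_pow, map_inv, FreeGroup.lift_apply_of, Units.val_pow_eq_pow_val,
    Units.val_mul, Units.val_one, mul_inv_rev, inv_inv, HN.x, HN.y, HN.z, HN.t,
    pow_two (u .x), pow_two (u .y), pow_succ (u .y),
    pow_zero (u .y), one_mul, hx, hy, hz, ht, hxi, hyi, hzi, hti]
  · simpa [pow_succ, mul_assoc] using r1
  · simpa [pow_succ, mul_assoc] using r2
  · simpa [pow_succ, mul_assoc] using r3
  · simpa [pow_succ, mul_assoc] using r4
  · simpa [pow_succ, mul_assoc] using r5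
  · simpa [pow_succ, mul_assoc] using r6
  · simpa [pow_succ, mul_assoc] using r7
  · simpa [pow_succ, mul_assoc] using r8
  · simpa [pow_succ, mul_assoc] using r9
  · simpa [pow_succ, mul_assoc, List.replicate_succ] using r10
  · simpa [pow_succ, mul_assoc] using r11
  · simpa [pow_succ, mul_assoc] using r12
  · simpa [pow_succ, mul_assoc] using r13
  · simpa [pow_succ, mul_assoc] using r14

theorem val_mk {R : Type*} [Monoid R] (a b : R) (h1 : a * b = 1) (h2 : b * a = 1) :
    (⟨a, b, h1, h2⟩ : Rˣ).val = a ∧ ((⟨a, b, h1, h2⟩ : Rˣ)⁻¹).val = b := ⟨rfl, rfl⟩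

theorem genMat_val : ((genMat .x).val = md mX ∧ ((genMat .x)⁻¹).val = md mXi) ∧
    ((genMat .y).val = md mY ∧ ((genMat .y)⁻¹).val = md mYi) ∧
    ((genMat .z).val = md mZ ∧ ((genMat .z)⁻¹).val = md mZ) ∧
    ((genMat .t).val = md mT ∧ ((genMat .t)⁻¹).val = md mTi) := by
  refine ⟨?_, ?_, ?_, ?_⟩ <;> unfold genMat <;> exact val_mk _ _ _ _

theorem genMat_rel : ∀ r ∈ coxRelators HN.edges ∪ {r | r ∈ HN.extra},
    FreeGroup.lift genMat r = 1 := by
  obtain ⟨⟨hx, hxi⟩, ⟨hy, hyi⟩, ⟨hz, hzi⟩, ⟨ht, hti⟩⟩ := genMat_val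
  obtain ⟨o1, o2, o3, o4, o5, o6, o7, -, -⟩ := oks
  have e : ∀ (L : List (List ℕ)) (k : ℕ), (∀ B ∈ L, ok 19 133 B = true) → pow1 L k = true →
      (L.map md).prod ^ k = 1 :=
    fun _ _ hL h => pow1_spec h hL
  refine gen_rel genMat hx hxi hy hyi hz hzi ht hti ?_ ?_ ?_ ?_ ?_ ?_ ?_ ?_ ?_ ?_ ?_ ?_ ?_ ?_
  · exact e [mY] 6 (by simp only [List.forall_mem_cons, List.not_mem_nil, false_imp_iff, implies_true, o1, o2, o3, o4, o5, o6, o7, and_self]) rel12.1
  · exact e [mX, mX, mY, mX, mX, mYi] 1 (by simp only [List.forall_mem_cons, List.not_mem_nil, false_imp_iff, implies_true, o1, o2, o3, o4, o5, o6, o7, and_self]) rel12.2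
  · exact e [mXi, mYi, mX, mY] 3 (by simp only [List.forall_mem_cons, List.not_mem_nil, false_imp_iff, implies_true, o1, o2, o3, o4, o5, o6, o7, and_self]) rel34.1
  · exact e [mXi, mY, mY, mX, mY, mY, mY] 3 (by simp only [List.forall_mem_cons, List.not_mem_nil, false_imp_iff, implies_true, o1, o2, o3, o4, o5, o6, o7, and_self]) rel34.2
  · exact e [mX, mY] 8 (by simp only [List.forall_mem_cons, List.not_mem_nil, false_imp_iff, implies_true, o1, o2, o3, o4, o5, o6, o7, and_self]) rel56.1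
  · exact e [mX, mY, mX, mY, mY, mY] 4 (by simp only [List.forall_mem_cons, List.not_mem_nil, false_imp_iff, implies_true, o1, o2, o3, o4, o5, o6, o7, and_self]) rel56.2
  · exact e [mZ] 2 (by simp only [List.forall_mem_cons, List.not_mem_nil, false_imp_iff, implies_true, o1, o2, o3, o4, o5, o6, o7, and_self]) invs.2.2.1
  · exact e [mZ, mX] 2 (by simp only [List.forall_mem_cons, List.not_mem_nil, false_imp_iff, implies_true, o1, o2, o3, o4, o5, o6, o7, and_self]) rel89.1
  · exact e [mZ, mY, mXi, mYi, mYi, mXi, mYi, mXi, mYi, mZ, mY, mX, mY, mX, mY, mY, mX, mYi, mXi, mXi] 1 (by simp only [List.forall_mem_cons, List.not_mem_nil, false_imp_iff, implies_true, o1, o2, o3, o4, o5, o6, o7, and_self]) rel89.2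
  · have := e _ 1 (by simp only [List.mem_append, List.mem_flatten, List.mem_replicate]
                      rintro B (hB | ⟨l, ⟨-, rfl⟩, hB⟩) <;> revert B hB <;>
                        simp only [List.forall_mem_cons, List.not_mem_nil, false_imp_iff, implies_true, o1, o2, o3, o4, o5, o6, o7, and_self]) rel10
    simpa only [List.map_append, List.map_flatten, List.map_replicate, List.map_cons, List.map_nil] using this
  · exact e [mT] 5 (by simp only [List.forall_mem_cons, List.not_mem_nil, false_imp_iff, implies_true, o1, o2, o3, o4, o5, o6, o7, and_self]) relT.1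
  · exact e [mXi, mT, mX, mT, mT] 1 (by simp only [List.forall_mem_cons, List.not_mem_nil, false_imp_iff, implies_true, o1, o2, o3, o4, o5, o6, o7, and_self]) relT.2.1
  · exact e [mTi, mYi, mT, mY] 1 (by simp only [List.forall_mem_cons, List.not_mem_nil, false_imp_iff, implies_true, o1, o2, o3, o4, o5, o6, o7, and_self]) relT.2.2.1
  · exact e [mZ, mT] 3 (by simp only [List.forall_mem_cons, List.not_mem_nil, false_imp_iff, implies_true, o1, o2, o3, o4, o5, o6, o7, and_self]) relT.2.2.2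

/-- The representation. -/
noncomputable def rho : HN →* M133ˣ := PresentedGroup.toGroup genMat_rel

theorem rho_of (a : HN.Gen) : rho (PresentedGroup.of a) = genMat a := PresentedGroup.toGroup.of _

/-- The vector of a point. -/
noncomputable def vec (i : Fin 100) : Fin 133 → ZMod 19 := fun j => md mV ⟨i, by omega⟩ j

theorem vec_injective : Function.Injective vec := by
  intro i j e
  by_contra hne
  have h := mV_inj
  simp only [List.all_eq_true, List.mem_range, Bool.or_eq_true, Nat.beq_eq, Bool.not_eq_true'] at h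
  rcases h i i.2 j j.2 with h | h
  · exact hne (Fin.ext h)
  have hok : ok 19 133 mV = true := oks.2.2.2.2.2.2.2.1
  have he : mV.getD i 0 = mV.getD j 0 := by
    rw [← row_of_ok hok (show (i : ℕ) < 133 by omega), ← row_of_ok hok (show (j : ℕ) < 133 by omega),
      red_eq, red_eq]
    refine Finset.sum_congr rfl fun k hk => ?_
    have hk' := Finset.mem_range.1 hk
    have e1 : ((dig (mV.getD i 0) k : ℕ) : ZMod 19) = ((dig (mV.getD j 0) k : ℕ) : ZMod 19) := by
      have := congrFun e ⟨k, hk'⟩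
      unfold vec md dec at this
      exact this
    rw [ZMod.natCast_eq_natCast_iff'] at e1
    rw [e1]
  rw [he] at h
  simp at h

/-- A matrix permutes the vectors as the permutation says. -/
def Moves (g : HN) (σ : P) : Prop :=
  ∀ i, Matrix.vecMul (vec (σ i)) (rho g).val = vec i

theorem Moves.one : Moves 1 1 := fun i => by rw [map_one, Units.val_one, Matrix.vecMul_one]; rfl

theorem Moves.mul {g h : HN} {σ τ : P} (hg : Moves g σ) (hh : Moves h τ) : Moves (g * h) (σ * τ) :=
  fun i => by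
    rw [map_mul, Units.val_mul, ← Matrix.vecMul_vecMul, Equiv.Perm.mul_apply, hg, hh]

theorem Moves.inv {g : HN} {σ : P} (hg : Moves g σ) : Moves g⁻¹ σ⁻¹ := fun i => by
  have h := congrArg (fun v => Matrix.vecMul v ((rho g)⁻¹ : M133ˣ).val) (hg (σ⁻¹ i))
  simp only [Matrix.vecMul_vecMul, Units.mul_inv, Matrix.vecMul_one] at h
  rw [map_inv, ← h, Equiv.Perm.inv_def, Equiv.apply_symm_apply]

theorem Moves.unique {g : HN} {σ τ : P} (hg : Moves g σ) (hh : Moves g τ) : σ = τ := by
  apply Equiv.ext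
  intro i
  apply vec_injective
  have e := (hg i).trans (hh i).symm
  have e' := congrArg (fun v => Matrix.vecMul v ((rho g)⁻¹ : M133ˣ).val) e
  simpa [Matrix.vecMul_vecMul] using e'

theorem moves_of_check {a : HN.Gen} {k : ℕ} {M : List ℕ} {σ : P} (hM : ok 19 133 M = true)
    (hval : (genMat a).val = md M) (hσ : Rep 7 100 k σ) (h : moveK k M = true) :
    Moves (PresentedGroup.of a) σ := by
  unfold moveK at h
  rw [forceList_eq] at h
  simp only [List.all_eq_true, List.mem_range, Nat.beq_eq] at h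
  have hok : ok 19 133 mV = true := oks.2.2.2.2.2.2.2.1
  intro i
  funext j
  have hi := h i i.2
  have hk : Nat.mod (Nat.shiftRight k (Nat.mul 7 i)) 128 = ((σ i : Fin 100) : ℕ) := by
    have := hσ i
    unfold lk at this
    exact this
  rw [hk] at hi
  rw [rho_of, hval]
  show (md mV * md M) ⟨(σ i : Fin 100), by omega⟩ j = md mV ⟨i, by omega⟩ j
  unfold md
  rw [← dec_mul (p := 19) (n := 133) (by norm_num) (by norm_num) hok hM]
  unfold dec
  exact congrArg (fun v => ((dig v j : ℕ) : ZMod 19)) hi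

theorem moves_gens : Moves (PresentedGroup.of HN.Gen.x) sX ∧ Moves (PresentedGroup.of HN.Gen.y) sY ∧
    Moves (PresentedGroup.of HN.Gen.z) sZ := by
  obtain ⟨o1, -, o3, -, o5, -⟩ := oks
  exact ⟨moves_of_check o1 genMat_val.1.1 (rep_permOf keys_valid.1) moves.1,
    moves_of_check o3 genMat_val.2.1.1 (rep_permOf keys_valid.2.1) moves.2.1,
    moves_of_check o5 genMat_val.2.2.1.1 (rep_permOf keys_valid.2.2) moves.2.2⟩

theorem sq_x_entry : Nat.beq (dig ((PackedMatrix.mul 19 133 mX mX).getD 0 0) 0) 5 = true := by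
  decide +kernel

theorem x_sq_ne_one : (PresentedGroup.of HN.Gen.x : HN) ^ 2 ≠ 1 := by
  intro h
  have e := congrArg (fun g => rho g) h
  beta_reduce at e
  rw [map_pow, rho_of, map_one] at e
  have e2 : md mX * md mX = 1 := by
    have e' := congrArg Units.val e
    rw [Units.val_pow_eq_pow_val, pow_two, genMat_val.1.1] at e'
    exact e'
  unfold md at e2
  rw [← dec_mul (p := 19) (n := 133) (by norm_num) (by norm_num) oks.1 oks.1] at e2
  have e3 := congrFun (congrFun e2 0) 0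
  unfold dec at e3
  rw [Matrix.one_apply_eq, Fin.val_zero, Nat.eq_of_beq_eq_true sq_x_entry] at e3
  exact absurd e3 (by decide)

end CfsgLib.Sporadic.CosetCert.HNDouble
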