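import Cfsg.Prelude.Def_SporadicB
import Cfsg.Agent.Lib.Sporadic.HNDouble.MatRep
import Cfsg.Agent.Lib.Sporadic.OutCert.HS.Group
import Cfsg.Agent.Lib.SmallGroups.SimpleTools

/-!
# The double cover of `HS : 2` in the presented Harada-Norton group
-/

set_option autoImplicit false
set_option maxRecDepth 100000

namespace CfsgLib.Sporadic.CosetCert.HNDouble

open OutCert Cfsg.Spor

attribute [local irreducible] lk pkF allF compK oneK validK

section Relations

variable {G : Type*} [Group G]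

/-- The relations in `x, y, z` make `x ^ 2` a central element of order at most two. -/
theorem sq_central (x y z : G) (r2 : x ^ 2 * y * x ^ 2 * y⁻¹ = 1)
    (r4 : (x⁻¹ * y ^ 2 * x * y ^ 3) ^ 3 = 1) (hz : z ^ 2 = 1) (hzx : (z * x) ^ 2 = 1) :
    x ^ 2 * x ^ 2 = 1 ∧ Commute (x ^ 2) x ∧ Commute (x ^ 2) y ∧ Commute (x ^ 2) z := by
  set d := x ^ 2 with hd
  have hy : y * d * y⁻¹ = d⁻¹ := by
    apply eq_inv_of_mul_eq_one_right
    calc d * (y * d * y⁻¹) = d * y * d * y⁻¹ := by group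
      _ = 1 := r2
  have hy' : y * d⁻¹ * y⁻¹ = d := by
    rw [show y * d⁻¹ * y⁻¹ = (y * d * y⁻¹)⁻¹ by group, hy, inv_inv]
  have hx : x * d * x⁻¹ = d := by rw [hd]; group
  have hxi : x⁻¹ * d * x = d := by rw [hd]; group
  obtain ⟨t, ht⟩ : ∃ t, t = x⁻¹ * y ^ 2 * x * y ^ 3 := ⟨_, rfl⟩
  rw [← ht] at r4
  have ht1 : t * d * t⁻¹ = d⁻¹ := by
    calc t * d * t⁻¹ = x⁻¹ * (y * (y * (x * (y * (y * (y * d * y⁻¹) * y⁻¹) * y⁻¹) * x⁻¹) * y⁻¹) * y⁻¹) * x := by
          simp only [ht, pow_succ, pow_zero, one_mul, mul_inv_rev, inv_inv, mul_assoc]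
      _ = x⁻¹ * (y * (y * (x * d⁻¹ * x⁻¹) * y⁻¹) * y⁻¹) * x := by rw [hy, hy', hy]
      _ = x⁻¹ * d⁻¹ * x := by
          rw [show x * d⁻¹ * x⁻¹ = (x * d * x⁻¹)⁻¹ by group, hx, hy', hy]
      _ = (x⁻¹ * d * x)⁻¹ := by group
      _ = d⁻¹ := by rw [hxi]
  have ht2 : t * d⁻¹ * t⁻¹ = d := by
    rw [show t * d⁻¹ * t⁻¹ = (t * d * t⁻¹)⁻¹ by group, ht1, inv_inv]
  have hinv : d⁻¹ = d := by
    calc d⁻¹ = t * (t * (t * d * t⁻¹) * t⁻¹) * t⁻¹ := by rw [ht1, ht2, ht1]
      _ = t ^ 3 * d * (t ^ 3)⁻¹ := by simp only [pow_succ, pow_zero, one_mul, mul_inv_rev, mul_assoc]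
      _ = d := by rw [r4]; group
  have hdd : d * d = 1 := by
    nth_rewrite 1 [← hinv]
    exact inv_mul_cancel d
  have hcy : Commute d y := by
    show d * y = y * d
    rw [hinv] at hy
    exact (mul_inv_eq_iff_eq_mul.1 hy).symm
  have hcz : Commute d z := by
    have e : z * x * z = x⁻¹ := eq_inv_of_mul_eq_one_left (by rw [← hzx, pow_two]; group)
    have hzi : z⁻¹ = z := inv_eq_of_mul_eq_one_right (by rw [← pow_two]; exact hz)
    show d * z = z * d
    have e2 : z * d * z⁻¹ = d⁻¹ := by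
      calc z * d * z⁻¹ = (z * x * z⁻¹) * (z * x * z⁻¹) := by rw [hd, pow_two]; group
        _ = d⁻¹ := by rw [hzi, e, hd, pow_two, mul_inv_rev]
    rw [hinv] at e2
    exact (mul_inv_eq_iff_eq_mul.1 e2).symm
  exact ⟨hdd, Commute.pow_self x 2, hcy, hcz⟩

/-- The relations in the quotient by a subgroup containing `x ^ 2`. -/
theorem quot_rels (x y z : G) (r1 : y ^ 6 = 1) (r3 : (x⁻¹ * y⁻¹ * x * y) ^ 3 = 1)
    (r4 : (x⁻¹ * y ^ 2 * x * y ^ 3) ^ 3 = 1) (r5 : (x * y) ^ 8 = 1)
    (r6 : (x * y * x * y ^ 3) ^ 4 = 1) (hz : z ^ 2 = 1) (hzx : (z * x) ^ 2 = 1)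
    (r9 : z⁻¹ * (y * x * y * x * y ^ 2 * x * y⁻¹)⁻¹ * z * (y * x * y * x * y ^ 2 * x * y⁻¹) * (x ^ 2)⁻¹ = 1)
    (r10 : z * ((y ^ 3 * x * y * x * y)⁻¹ * z * (y ^ 3 * x * y * x * y) * x) ^ 3 = 1) (hx : x * x = 1) :
    Rels x y ∧ z⁻¹ = z ∧ z * x * z * x = 1 ∧ z * (wW x y)⁻¹ * z * wW x y = 1 ∧
      z * ((wU x y)⁻¹ * z * wU x y * x) ^ 3 = 1 := by
  have hxi : x⁻¹ = x := inv_eq_of_mul_eq_one_right hx
  have hzi : z⁻¹ = z := inv_eq_of_mul_eq_one_right (by rw [← pow_two]; exact hz)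
  refine ⟨⟨hxi, r1, ?_, ?_, r5, r6⟩, hzi, ?_, ?_, r10⟩
  · simpa only [hxi] using r3
  · simpa only [hxi] using r4
  · simpa only [pow_two, mul_assoc] using hzx
  · unfold wW
    simpa only [pow_two x, hx, inv_one, mul_one, hzi] using r9

/-- The relations hold in the image under a homomorphism killing `x ^ 2`. -/
theorem image_rels {G' : Type*} [Group G'] (φ : G →* G') (x y z : G) (r1 : y ^ 6 = 1)
    (r3 : (x⁻¹ * y⁻¹ * x * y) ^ 3 = 1) (r4 : (x⁻¹ * y ^ 2 * x * y ^ 3) ^ 3 = 1) (r5 : (x * y) ^ 8 = 1)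
    (r6 : (x * y * x * y ^ 3) ^ 4 = 1) (hz : z ^ 2 = 1) (hzx : (z * x) ^ 2 = 1)
    (r9 : z⁻¹ * (y * x * y * x * y ^ 2 * x * y⁻¹)⁻¹ * z * (y * x * y * x * y ^ 2 * x * y⁻¹) * (x ^ 2)⁻¹ = 1)
    (r10 : z * ((y ^ 3 * x * y * x * y)⁻¹ * z * (y ^ 3 * x * y * x * y) * x) ^ 3 = 1)
    (hx : φ (x ^ 2) = 1) :
    Rels (φ x) (φ y) ∧ (φ z)⁻¹ = φ z ∧ φ z * φ x * φ z * φ x = 1 ∧
      φ z * (wW (φ x) (φ y))⁻¹ * φ z * wW (φ x) (φ y) = 1 ∧
      φ z * ((wU (φ x) (φ y))⁻¹ * φ z * wU (φ x) (φ y) * φ x) ^ 3 = 1 :=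
  quot_rels (φ x) (φ y) (φ z) (by simpa only [map_mul, map_pow, map_inv, map_one] using congrArg φ r1)
    (by simpa only [map_mul, map_pow, map_inv, map_one] using congrArg φ r3)
    (by simpa only [map_mul, map_pow, map_inv, map_one] using congrArg φ r4)
    (by simpa only [map_mul, map_pow, map_inv, map_one] using congrArg φ r5)
    (by simpa only [map_mul, map_pow, map_inv, map_one] using congrArg φ r6)
    (by simpa only [map_mul, map_pow, map_inv, map_one] using congrArg φ hz)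
    (by simpa only [map_mul, map_pow, map_inv, map_one] using congrArg φ hzx)
    (by simpa only [map_mul, map_pow, map_inv, map_one] using congrArg φ r9)
    (by simpa only [map_mul, map_pow, map_inv, map_one] using congrArg φ r10)
    (by rw [← map_mul, ← pow_two]; exact hx)

end Relations

/-- The image of `x`. -/
noncomputable def gX : HN := PresentedGroup.of HN.Gen.x

/-- The image of `y`. -/
noncomputable def gY : HN := PresentedGroup.of HN.Gen.y

/-- The image of `z`. -/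
noncomputable def gZ : HN := PresentedGroup.of HN.Gen.z

theorem hn_rels : gY ^ 6 = 1 ∧ gX ^ 2 * gY * gX ^ 2 * gY⁻¹ = 1 ∧ (gX⁻¹ * gY⁻¹ * gX * gY) ^ 3 = 1 ∧
    (gX⁻¹ * gY ^ 2 * gX * gY ^ 3) ^ 3 = 1 ∧ (gX * gY) ^ 8 = 1 ∧ (gX * gY * gX * gY ^ 3) ^ 4 = 1 ∧
    gZ ^ 2 = 1 ∧ (gZ * gX) ^ 2 = 1 ∧
    gZ⁻¹ * (gY * gX * gY * gX * gY ^ 2 * gX * gY⁻¹)⁻¹ * gZ * (gY * gX * gY * gX * gY ^ 2 * gX * gY⁻¹) *
      (gX ^ 2)⁻¹ = 1 ∧
    gZ * ((gY ^ 3 * gX * gY * gX * gY)⁻¹ * gZ * (gY ^ 3 * gX * gY * gX * gY) * gX) ^ 3 = 1 := by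
  have h : ∀ r ∈ HN.extra, PresentedGroup.mk (coxRelators HN.edges ∪ {r | r ∈ HN.extra}) r = 1 :=
    fun r hr => PresentedGroup.one_of_mem (Or.inr hr)
  simp only [HN.extra, List.forall_mem_cons, map_mul, map_pow, map_inv] at h
  obtain ⟨h1, h2, h3, h4, h5, h6, h7, h8, h9, h10, -⟩ := h
  exact ⟨h1, h2, h3, h4, h5, h6, h7, h8, h9, h10⟩

/-- The subgroup generated by the images of `x, y, z`. -/
abbrev N0 : Subgroup HN :=
  (Subgroup.closure ({HN.x, HN.y, HN.z} : Set (FreeGroup HN.Gen))).map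
    (PresentedGroup.mk (coxRelators HN.edges ∪ {r | r ∈ HN.extra}))

theorem N0_eq : N0 = Subgroup.closure {gX, gY, gZ} := by
  rw [N0, MonoidHom.map_closure, Set.image_insert_eq, Set.image_pair]
  rfl

/-- The generators in the subgroup. -/
noncomputable def nX : N0 := ⟨gX, N0_eq ▸ Subgroup.subset_closure (by simp)⟩

/-- The generators in the subgroup. -/
noncomputable def nY : N0 := ⟨gY, N0_eq ▸ Subgroup.subset_closure (by simp)⟩

/-- The generators in the subgroup. -/
noncomputable def nZ : N0 := ⟨gZ, N0_eq ▸ Subgroup.subset_closure (by simp)⟩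

theorem closure_n : Subgroup.closure {nX, nY, nZ} = (⊤ : Subgroup N0) := by
  apply Subgroup.map_injective N0.subtype_injective
  rw [MonoidHom.map_closure, ← MonoidHom.range_eq_map, Subgroup.range_subtype, Set.image_insert_eq,
    Set.image_pair]
  exact N0_eq.symm

theorem exists_moves (n : N0) : ∃ σ, Moves (n : HN) σ := by
  have hn : (n : HN) ∈ Subgroup.closure {gX, gY, gZ} := N0_eq ▸ n.2
  generalize (n : HN) = g at hn ⊢
  induction hn using Subgroup.closure_induction with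
  | mem g hg =>
    obtain ⟨mx, my, mz⟩ := moves_gens
    rcases hg with rfl | rfl | rfl
    · exact ⟨_, mx⟩
    · exact ⟨_, my⟩
    · exact ⟨_, mz⟩
  | one => exact ⟨1, Moves.one⟩
  | mul a b _ _ iha ihb =>
    obtain ⟨σ, hσ⟩ := iha
    obtain ⟨τ, hτ⟩ := ihb
    exact ⟨σ * τ, hσ.mul hτ⟩
  | inv a _ iha =>
    obtain ⟨σ, hσ⟩ := iha
    exact ⟨σ⁻¹, hσ.inv⟩

/-- The action on 100 points. -/
noncomputable def act : N0 →* P :=
  MonoidHom.mk' (fun n => (exists_moves n).choose) fun a b =>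
    Moves.unique (exists_moves (a * b)).choose_spec
      ((exists_moves a).choose_spec.mul (exists_moves b).choose_spec)

theorem act_eq (n : N0) {σ : P} (h : Moves (n : HN) σ) : act n = σ :=
  Moves.unique (exists_moves n).choose_spec h

theorem act_gens : act nX = sX ∧ act nY = sY ∧ act nZ = sZ :=
  ⟨act_eq _ moves_gens.1, act_eq _ moves_gens.2.1, act_eq _ moves_gens.2.2⟩

theorem act_sq : act (nX ^ 2) = 1 := by
  rw [map_pow, act_gens.1, pow_two]
  nth_rewrite 1 [← sX_inv]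
  exact inv_mul_cancel sX

theorem sq_facts : nX ^ 2 ∈ Subgroup.center N0 ∧ orderOf (nX ^ 2) = 2 := by
  obtain ⟨-, h2, -, h4, -, -, h7, h8, -, -⟩ := hn_rels
  obtain ⟨hdd, cx, cy, cz⟩ := sq_central nX nY nZ
    (Subtype.ext (by simpa [nX, nY] using h2)) (Subtype.ext (by simpa [nX, nY] using h4))
    (Subtype.ext (by simpa [nZ] using h7)) (Subtype.ext (by simpa [nX, nZ] using h8))
  refine ⟨?_, ?_⟩
  · rw [Subgroup.mem_center_iff]
    intro g
    have hle : Subgroup.closure {nX, nY, nZ} ≤ Subgroup.centralizer {nX ^ 2} := by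
      rw [Subgroup.closure_le]
      rintro _ (rfl | rfl | rfl)
      · exact Subgroup.mem_centralizer_singleton_iff.2 cx.symm.eq
      · exact Subgroup.mem_centralizer_singleton_iff.2 cy.symm.eq
      · exact Subgroup.mem_centralizer_singleton_iff.2 cz.symm.eq
    rw [closure_n] at hle
    exact Subgroup.mem_centralizer_singleton_iff.1 (hle (Subgroup.mem_top g))
  · refine orderOf_eq_prime (by rw [pow_two (nX ^ 2)]; exact hdd) fun e => x_sq_ne_one ?_
    have := congrArg Subtype.val e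
    simpa [nX, gX] using this

/-- The subgroup generated by `x ^ 2`. -/
noncomputable def sqSub : Subgroup N0 := Subgroup.zpowers (nX ^ 2)

theorem sqSub_le : sqSub ≤ Subgroup.center N0 := Subgroup.zpowers_le.2 sq_facts.1

theorem card_sqSub : Nat.card sqSub = 2 := by rw [sqSub, Nat.card_zpowers, sq_facts.2]

theorem sqSub_normal : sqSub.Normal :=
  ⟨fun n hn g => by
    rwa [Subgroup.mem_center_iff.1 (sqSub_le hn) g, mul_inv_cancel_right]⟩

theorem card_N0 : Nat.card N0 ≤ 177408000 ∧ Nat.card N0 ≠ 0 := by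
  have := sqSub_normal
  have hle : sqSub ≤ act.ker := Subgroup.zpowers_le.2 act_sq
  obtain ⟨q, hq⟩ : ∃ q, q = QuotientGroup.mk' sqSub := ⟨_, rfl⟩
  have hx : q (nX ^ 2) = 1 := by
    rw [hq]
    exact (QuotientGroup.eq_one_iff _).2 (Subgroup.mem_zpowers _)
  obtain ⟨h1, -, h3, h4, h5, h6, h7, h8, h9, h10⟩ := hn_rels
  obtain ⟨hR, hZ, hzx, hzw, hU⟩ := image_rels q nX nY nZ (Subtype.ext h1) (Subtype.ext h3)
    (Subtype.ext h4) (Subtype.ext h5) (Subtype.ext h6) (Subtype.ext h7) (Subtype.ext h8) (Subtype.ext h9)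
    (Subtype.ext h10) hx
  have htop : Subgroup.closure {q nX, q nY, q nZ} = ⊤ := by
    have e := congrArg (Subgroup.map q) closure_n
    rwa [MonoidHom.map_closure, Set.image_insert_eq, Set.image_pair,
      Subgroup.map_top_of_surjective q (hq ▸ QuotientGroup.mk'_surjective sqSub)] at e
  subst hq
  obtain ⟨hb, hb0⟩ := card_le hR (QuotientGroup.lift sqSub act hle) act_gens.1 act_gens.2.1 hZ hzx
    hzw hU htop
  rw [Subgroup.card_eq_card_quotient_mul_card_subgroup sqSub, card_sqSub]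
  exact ⟨by omega, by omega⟩

/-- The swaps of the image of `z`. -/
def zSwaps : List (Fin 100 × Fin 100) := [(0, 46), (3, 78), (4, 24), (5, 81), (6, 83), (8, 35), (10, 47), (11, 86), (12, 39), (13, 89), (14, 31), (15, 44), (17, 45), (19, 40), (20, 88), (21, 27), (23, 87), (25, 85), (29, 42), (32, 41), (33, 37), (34, 43), (36, 82), (38, 84), (51, 91), (52, 55), (56, 93), (57, 60), (62, 65), (64, 95), (68, 97), (70, 71), (74, 98), (75, 99), (76, 77)]

theorem z_swaps : ∀ i : Fin 100,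
    (((zSwaps.map fun s => Equiv.swap s.1 s.2).prod i : Fin 100) : ℕ) = lk 7 kZ i := by
  decide +kernel

/-- The swaps of the image of `x`. -/
def xSwaps : List (Fin 100 × Fin 100) := [(0, 78), (1, 18), (2, 7), (3, 46), (4, 24), (5, 45), (6, 44), (8, 35), (9, 16), (10, 86), (11, 47), (12, 39), (13, 89), (14, 31), (15, 83), (17, 81), (19, 40), (20, 88), (21, 27), (22, 66), (23, 87), (25, 77), (26, 53), (28, 50), (29, 91), (30, 63), (32, 95), (33, 37), (34, 98), (36, 71), (38, 60), (41, 64), (42, 51), (43, 74), (48, 96), (49, 92), (52, 55), (54, 67), (56, 93), (57, 84), (58, 69), (59, 94), (61, 80), (62, 65), (68, 97), (70, 82), (72, 90), (73, 79), (75, 99), (76, 85)]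

theorem x_swaps : ∀ i : Fin 100,
    (((xSwaps.map fun s => Equiv.swap s.1 s.2).prod i : Fin 100) : ℕ) = lk 7 kX i := by
  decide +kernel

theorem sign_of_swaps {σ : P} {k n : ℕ} {l : List (Fin 100 × Fin 100)}
    (h : ∀ i : Fin 100, (((l.map fun s => Equiv.swap s.1 s.2).prod i : Fin 100) : ℕ) = lk 7 k i)
    (hσ : Rep 7 100 k σ) (hne : (l.all fun s => !(Nat.beq s.1.1 s.2.1)) = true) (hn : l.length = n) :
    Equiv.Perm.sign σ = (-1) ^ n := by
  have e : (l.map fun s => Equiv.swap s.1 s.2).prod = σ :=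
    Equiv.ext fun i => Fin.ext ((h i).trans (hσ i))
  rw [← e, OutCert.HS.sign_swaps _ (fun s hs e' => ?_), hn]
  have := List.all_eq_true.1 hne s hs
  simp [e'] at this

theorem sign_sX : Equiv.Perm.sign sX = 1 := by
  unfold sX
  rw [sign_of_swaps x_swaps (rep_permOf keys_valid.1) (by decide +kernel)
    (by decide +kernel : xSwaps.length = 50)]
  exact Even.neg_one_pow ⟨25, rfl⟩

theorem sign_sZ : Equiv.Perm.sign sZ = -1 := by
  unfold sZ
  rw [sign_of_swaps z_swaps (rep_permOf keys_valid.2.2) (by decide +kernel)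
    (by decide +kernel : zSwaps.length = 35)]
  exact Odd.neg_one_pow ⟨17, rfl⟩

theorem gens_words : keyW (fun x => [kX, kY, kYi, kZ].getD x (oneK 7 100)) wordPA = OutCert.HS.ka ∧
    keyW (fun x => [kX, kY, kYi, kZ].getD x (oneK 7 100)) wordPB = OutCert.HS.kb := by decide +kernel

theorem mem_range_of_key {L : List ℕ} {k : ℕ} {σ : P}
    (hk : keyW (fun x => [kX, kY, kYi, kZ].getD x (oneK 7 100)) L = k) (hσ : Rep 7 100 k σ) :
    σ ∈ act.range := by
  obtain ⟨hx, hy, hz⟩ := act_gens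
  refine ⟨appProd (g4 nX nY nZ) L, ?_⟩
  rw [map_appProd]
  have hr : ∀ x, Rep 7 100 ([kX, kY, kYi, kZ].getD x (oneK 7 100)) (act (g4 nX nY nZ x)) := by
    intro x
    have e : act (g4 nX nY nZ x) = [act nX, act nY, (act nY)⁻¹, act nZ].getD x 1 := by
      match x with
      | 0 => rfl
      | 1 => rfl
      | 2 => exact map_inv act nY
      | 3 => rfl
      | k + 4 => exact map_one act
    rw [e]
    refine rep_getD ?_ x
    refine List.Forall₂.cons ?_ (List.Forall₂.cons ?_ (List.Forall₂.cons ?_ (List.Forall₂.cons ?_ List.Forall₂.nil)))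
    · rw [hx]; exact rep_permOf keys_valid.1
    · rw [hy]; exact rep_permOf keys_valid.2.1
    · rw [hy]; exact rep_permOf_inv keys_valid.2.1
    · rw [hz]; exact rep_permOf keys_valid.2.2
  have r := rep_keyW hr L
  rw [hk] at r
  exact r.inj hσ

theorem H_le_range : OutCert.HS.H ≤ act.range := by
  rw [OutCert.HS.H, Subgroup.closure_le]
  rintro _ (rfl | rfl)
  · exact mem_range_of_key gens_words.1 OutCert.HS.rep_A
  · exact mem_range_of_key gens_words.2 OutCert.HS.rep_B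

/-- The even part. -/
noncomputable def K : Subgroup N0 := (Equiv.Perm.sign.comp act).ker

theorem K_index : K.index = 2 := by
  rw [K, Subgroup.index_ker]
  have h : (Equiv.Perm.sign.comp act).range = ⊤ := by
    rw [eq_top_iff]
    intro u _
    rcases Int.units_eq_one_or u with rfl | rfl
    · exact one_mem _
    · exact ⟨nZ, by rw [MonoidHom.comp_apply, act_gens.2.2, sign_sZ]⟩
  rw [h, Subgroup.card_top, Nat.card_eq_fintype_card, Fintype.card_units_int]

theorem exists_double_cover : ∃ K : Subgroup N0, K.Normal ∧ K.index = 2 ∧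
    Cfsg.IsNonsplitDoubleCover K Cfsg.Spor.HS := by
  obtain ⟨⟨e⟩, hHcard, -⟩ := OutCert.HS.H_spec
  obtain ⟨hN, hN0⟩ := card_N0
  have : Finite N0 := Nat.finite_of_card_ne_zero hN0
  have hK : Nat.card K ≤ 88704000 := by
    have := K.card_mul_index
    rw [K_index] at this
    omega
  -- the restriction to the even part
  let f : K →* P := act.comp K.subtype
  have hsub : OutCert.HS.H ≤ f.range := by
    intro s hs
    obtain ⟨n, rfl⟩ := H_le_range hs
    exact ⟨⟨n, MonoidHom.mem_ker.2 (MonoidHom.mem_ker.1 (OutCert.HS.H_le_sign hs))⟩, rfl⟩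
  have hdmem : nX ^ 2 ∈ K := by
    rw [K, MonoidHom.mem_ker, MonoidHom.comp_apply, act_sq, map_one]
  let d : K := ⟨nX ^ 2, hdmem⟩
  have hd : orderOf d = 2 := by
    rw [← orderOf_injective K.subtype K.subtype_injective d]
    exact sq_facts.2
  have hdker : Subgroup.zpowers d ≤ f.ker := Subgroup.zpowers_le.2 act_sq
  have hprod : Nat.card f.ker * Nat.card f.range = Nat.card K := by
    rw [← Subgroup.index_ker]
    exact f.ker.card_mul_index
  have hr : 44352000 ≤ Nat.card f.range := hHcard ▸ Subgroup.card_le_of_le hsub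
  have hk : 2 ≤ Nat.card f.ker := by
    rw [← hd, ← Nat.card_zpowers]
    exact Subgroup.card_le_of_le hdker
  have hk2 : Nat.card f.ker = 2 := by
    have := Nat.mul_le_mul hk hr
    nlinarith
  have hr2 : Nat.card f.range = 44352000 := by
    rw [hk2] at hprod
    omega
  have hker : f.ker = Subgroup.zpowers d := by
    refine (Subgroup.eq_of_le_of_card_ge hdker ?_).symm
    rw [hk2, Nat.card_zpowers, hd]
  have hrange : f.range = OutCert.HS.H :=
    (Subgroup.eq_of_le_of_card_ge hsub (by rw [hr2, hHcard])).symm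
  let ek : K ⧸ f.ker ≃* Cfsg.Spor.HS :=
    (QuotientGroup.quotientKerEquivRange f).trans ((MulEquiv.subgroupCongr hrange).trans e.symm)
  -- the centre
  have := OutCert.HS.isSimple_HS
  have hnc : ¬ IsMulCommutative Cfsg.Spor.HS := by
    intro hc
    let _ : CommGroup Cfsg.Spor.HS := { (inferInstance : Group Cfsg.Spor.HS) with mul_comm := hc.is_comm.comm }
    have : Finite Cfsg.Spor.HS := Nat.finite_of_card_ne_zero (by rw [OutCert.HS.card_HS]; norm_num)
    have hp : (Nat.card Cfsg.Spor.HS).Prime := IsSimpleGroup.prime_card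
    rw [OutCert.HS.card_HS] at hp
    norm_num at hp
  have : Finite Cfsg.Spor.HS := Nat.finite_of_card_ne_zero (by rw [OutCert.HS.card_HS]; norm_num)
  have hcentre : Subgroup.center K = f.ker := by
    apply le_antisymm
    · intro c hc
      rw [← QuotientGroup.eq_one_iff]
      apply ek.injective
      rw [map_one]
      have hm : ek (QuotientGroup.mk c) ∈ Subgroup.center Cfsg.Spor.HS := by
        rw [Subgroup.mem_center_iff]
        intro g
        obtain ⟨q, rfl⟩ := ek.surjective g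
        induction q using QuotientGroup.induction_on with
        | _ w =>
          rw [← map_mul, ← map_mul, ← QuotientGroup.mk_mul, ← QuotientGroup.mk_mul,
            Subgroup.mem_center_iff.1 hc w]
      rwa [SmallGroups.SimpleTools.center_eq_bot hnc, Subgroup.mem_bot] at hm
    · rw [hker, Subgroup.zpowers_le, Subgroup.mem_center_iff]
      intro g
      exact Subtype.ext (Subgroup.mem_center_iff.1 sq_facts.1 (g : N0))
  refine ⟨K, by rw [K]; infer_instance, K_index, ?_, ?_, ?_⟩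
  · rw [hcentre, hk2]
  · exact ⟨(QuotientGroup.quotientMulEquivOfEq hcentre).trans ek⟩
  · intro L hL
    let xK : K := ⟨nX, by
      rw [K, MonoidHom.mem_ker, MonoidHom.comp_apply, act_gens.1]
      exact sign_sX⟩
    obtain ⟨⟨⟨c, hc⟩, ⟨l, hl⟩⟩, hcl⟩ := hL.2 xK
    change c * l = xK at hcl
    have hcc : c * c = 1 := by
      have h2 : c ∈ f.ker := hcentre ▸ hc
      have := orderOf_dvd_natCard (⟨c, h2⟩ : f.ker)
      rw [hk2] at this
      have e2 := orderOf_dvd_iff_pow_eq_one.1 this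
      rw [pow_two] at e2
      exact congrArg Subtype.val e2
    have hd' : d = l * l := by
      calc d = xK * xK := Subtype.ext (pow_two nX)
        _ = (c * l) * (c * l) := by rw [hcl]
        _ = (c * c) * (l * l) := Commute.mul_mul_mul_comm (Subgroup.mem_center_iff.1 hc l) c l
        _ = l * l := by rw [hcc, one_mul]
    have hbot : d ∈ Subgroup.center K ⊓ L :=
      ⟨hcentre ▸ hker ▸ Subgroup.mem_zpowers d, hd' ▸ mul_mem hl hl⟩
    rw [hL.disjoint.eq_bot, Subgroup.mem_bot] at hbot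
    rw [hbot, orderOf_one] at hd
    exact absurd hd (by norm_num)

end CfsgLib.Sporadic.CosetCert.HNDouble
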