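import Cfsg.Agent.Lib.Sporadic.CosetCertApply

/-!
# Reading a certificate in an arbitrary group
-/

set_option autoImplicit false

namespace CfsgLib.Sporadic.CosetCert.HNDouble

variable {G : Type*} [Group G]

/-- The letters of a certificate can be read as elements of a group, with the subgroup words in `S`. -/
structure Reads (C : Cert) (g : ℕ → G) (S : Subgroup G) : Prop where
  one : g C.nl = 1
  inv : ∀ x < C.nl, g (C.inv x) = (g x)⁻¹
  rels : ∀ i < C.nr, appProd g (C.letters i) = 1
  subs : ∀ i < C.words.length, C.nr ≤ i → appProd g (C.letters i) ∈ S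

variable {C : Cert} {g : ℕ → G} {S : Subgroup G}

/-- The interpretation on the cosets. -/
def Reads.interp (h : Reads C g S) : C.Interp G (G ⧸ S) where
  g := g
  base := ((1 : G) : G ⧸ S)
  g_nl := h.one
  g_inv := h.inv

theorem Reads.respects (h : Reads C g S) : h.interp.Respects := by
  intro i hi
  have e : h.interp.prod (C.word i).1 (C.word i).2 0 (C.word i).1 = appProd g (C.letters i) :=
    Cert.Interp.prod_eq_appProd h.interp _ _ _
  rw [e]
  refine ⟨h.rels i, ?_⟩
  rcases lt_or_ge i C.nr with hlt | hge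
  · rw [h.rels i hlt, one_smul]
  · show ((appProd g (C.letters i) * 1 : G) : G ⧸ S) = ((1 : G) : G ⧸ S)
    rw [mul_one, QuotientGroup.eq, mul_one]
    exact inv_mem (h.subs i hi hge)

theorem Reads.relIndex_le (h : Reads C g S) (hV : C.Valid) (hN : 0 < C.N) :
    S.relIndex (Subgroup.closure (g '' Set.Iio C.nl)) ≤ C.N ∧
      S.relIndex (Subgroup.closure (g '' Set.Iio C.nl)) ≠ 0 :=
  Cert.relIndex_le h.interp rfl hV h.respects hN

/-- Trace a word through a certificate, plus one; zero if unknown. -/
noncomputable def traceW (C : Cert) (top : ℕ) (L : List ℕ) (u : ℕ) : ℕ :=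
  L.foldl (fun a x => Nat.rec (motive := fun _ => ℕ) 0 (fun s _ => C.look top s x) a) (Nat.succ u)

theorem foldl_zero (C : Cert) (top : ℕ) (L : List ℕ) :
    L.foldl (fun a x => Nat.rec (motive := fun _ => ℕ) 0 (fun s _ => C.look top s x) a) 0 = 0 := by
  induction L with
  | nil => rfl
  | cons x t ih => exact ih

theorem Reads.trace_spec (h : Reads C g S) (hV : C.Valid) {top : ℕ} :
    ∀ (L : List ℕ) (u s : ℕ), (∀ x ∈ L, x < C.nl) → traceW C top L u = s + 1 →
      appProd g L • h.interp.node u = h.interp.node s := by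
  intro L
  induction L with
  | nil =>
    intro u s _ e
    change u + 1 = s + 1 at e
    rw [Nat.add_right_cancel e, appProd, one_smul]
  | cons x t ih =>
    intro u s hL e
    change t.foldl _ (C.look top u x) = s + 1 at e
    rcases hl : C.look top u x with _ | m
    · rw [hl, foldl_zero] at e
      exact absurd e (Nat.succ_ne_zero s).symm
    · rw [hl] at e
      have h1 := Cert.table_spec hV h.respects (hL x List.mem_cons_self).le hl
      rw [appProd, mul_smul]
      refine (congrArg _ h1).trans ?_
      exact ih m s (fun y hy => hL y (List.mem_cons_of_mem _ hy)) e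

/-- A word leading back to the first coset lies in the subgroup. -/
theorem Reads.mem_of_trace (h : Reads C g S) (hV : C.Valid) {top : ℕ} {L : List ℕ}
    (hb : L.all (fun x => Nat.blt x C.nl) = true) (ht : traceW C top L 0 = 1) :
    appProd g L ∈ S := by
  have h1 := h.trace_spec hV L 0 0 (fun x hx => Nat.le_of_ble_eq_true (List.all_eq_true.1 hb x hx)) ht
  rw [h.interp.node_zero] at h1
  have h2 : ((appProd g L * 1 : G) : G ⧸ S) = ((1 : G) : G ⧸ S) := h1
  rw [mul_one, QuotientGroup.eq, mul_one] at h2
  simpa using inv_mem h2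

theorem card_zpowers_le {a : G} {n : ℕ} (hn : 0 < n) (h : a ^ n = 1) :
    Nat.card (Subgroup.zpowers a) ≤ n ∧ Nat.card (Subgroup.zpowers a) ≠ 0 := by
  rw [Nat.card_zpowers]
  exact ⟨Nat.le_of_dvd hn (orderOf_dvd_of_pow_eq_one h),
    (orderOf_pos_iff.2 (isOfFinOrder_iff_pow_eq_one.2 ⟨n, hn, h⟩)).ne'⟩

theorem pow_swap_eq_one {a b : G} {n : ℕ} (h : (a * b) ^ n = 1) : (b * a) ^ n = 1 := by
  have e : b * a = a⁻¹ * (a * b) * (a⁻¹)⁻¹ := by group
  rw [e, conj_pow, h]
  group

end CfsgLib.Sporadic.CosetCert.HNDouble
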